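import Cfsg.Agent.Lib.SL2Centralizer
import Mathlib.LinearAlgebra.Matrix.Charpoly.Basic
import Mathlib.GroupTheory.Sylow
import Mathlib.LinearAlgebra.Matrix.GeneralLinearGroup.Basic

/-!
Elementary facts on `SL₂` over a field of odd characteristic: unipotent elements are those of trace
`2`, centralisers of elements with trace `≠ ±2`, and the copy of `SL₂(p)` generated by a pair of
opposite transvections with product of parameters `1`.
-/

set_option autoImplicit false
set_option maxHeartbeats 400000

namespace CfsgLib.Dickson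

open Matrix

variable {K : Type*} [Field K]

local notation "M2" => Matrix (Fin 2) (Fin 2) K
local notation "SL" => Matrix.SpecialLinearGroup (Fin 2) K

/-- Upper unitriangular matrix. -/
def up (t : K) : SL := ⟨!![1, t; 0, 1], by simp [Matrix.det_fin_two]⟩

/-- Lower unitriangular matrix. -/
def lo (t : K) : SL := ⟨!![1, 0; t, 1], by simp [Matrix.det_fin_two]⟩

@[simp] theorem coe_up (t : K) : (up t).1 = !![1, t; 0, 1] := rfl
@[simp] theorem coe_lo (t : K) : (lo t).1 = !![1, 0; t, 1] := rfl

theorem ext_entries {g h : SL} (h00 : g.1 0 0 = h.1 0 0) (h01 : g.1 0 1 = h.1 0 1)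
    (h10 : g.1 1 0 = h.1 1 0) (h11 : g.1 1 1 = h.1 1 1) : g = h := by
  apply Subtype.ext
  ext i j
  fin_cases i <;> fin_cases j <;> assumption

theorem det_eq (g : SL) : g.1 0 0 * g.1 1 1 - g.1 0 1 * g.1 1 0 = 1 := by
  rw [← Matrix.det_fin_two]; exact g.2

theorem mul_entry (g h : SL) (i j : Fin 2) :
    (g * h).1 i j = g.1 i 0 * h.1 0 j + g.1 i 1 * h.1 1 j := by
  rw [Matrix.SpecialLinearGroup.coe_mul, Matrix.mul_apply, Fin.sum_univ_two]

theorem inv_entries (g : SL) :
    (g⁻¹).1 0 0 = g.1 1 1 ∧ (g⁻¹).1 0 1 = -g.1 0 1 ∧ (g⁻¹).1 1 0 = -g.1 1 0 ∧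
      (g⁻¹).1 1 1 = g.1 0 0 := by
  rw [Matrix.SpecialLinearGroup.coe_inv, Matrix.adjugate_fin_two]
  exact ⟨rfl, rfl, rfl, rfl⟩

theorem up_mul (s t : K) : up s * up t = up (s + t) := by
  apply ext_entries <;> simp [mul_entry, add_comm]

theorem up_zero : up (0 : K) = 1 := by
  apply ext_entries <;> simp

theorem up_inv (t : K) : (up t)⁻¹ = up (-t) :=
  inv_eq_of_mul_eq_one_right (by rw [up_mul, add_neg_cancel, up_zero])

theorem up_pow (t : K) (n : ℕ) : up t ^ n = up ((n : K) * t) := by
  induction n with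
  | zero => simp [up_zero]
  | succ n ih => rw [pow_succ, ih, up_mul]; congr 1; push_cast; ring

theorem lo_mul (s t : K) : lo s * lo t = lo (s + t) := by
  apply ext_entries <;> simp [mul_entry, add_comm]

theorem lo_pow (t : K) (n : ℕ) : lo t ^ n = lo ((n : K) * t) := by
  induction n with
  | zero => apply ext_entries <;> simp
  | succ n ih => rw [pow_succ, ih, lo_mul]; congr 1; push_cast; ring

/-- Entries of a conjugate of an upper unitriangular matrix. -/
theorem conj_up (g : SL) (t : K) :
    (g * up t * g⁻¹).1 0 1 = t * g.1 0 0 ^ 2 ∧ (g * up t * g⁻¹).1 1 0 = -(t * g.1 1 0 ^ 2) ∧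
      (g * up t * g⁻¹).1 0 0 = 1 - t * g.1 0 0 * g.1 1 0 := by
  obtain ⟨i00, i01, i10, i11⟩ := inv_entries g
  have hd := det_eq g
  refine ⟨?_, ?_, ?_⟩
  · rw [mul_entry (g * up t), mul_entry g, mul_entry g, i01, i11]; simp; ring
  · rw [mul_entry (g * up t), mul_entry g, mul_entry g, i00, i10]; simp; ring
  · rw [mul_entry (g * up t), mul_entry g, mul_entry g, i00, i10]; simp; linear_combination hd

theorem trace_conj (g h : SL) : (g * h * g⁻¹).1.trace = h.1.trace := by
  rw [Matrix.SpecialLinearGroup.coe_mul, Matrix.trace_mul_comm, ← Matrix.SpecialLinearGroup.coe_mul,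
    inv_mul_cancel_left]

theorem trace_up (t : K) : (up t).1.trace = 2 := by
  simp [Matrix.trace_fin_two, one_add_one_eq_two]

theorem eq_up_iff {g : SL} :
    (∃ t, g = up t) ↔ g.1 1 0 = 0 ∧ g.1.trace = 2 := by
  constructor
  · rintro ⟨t, rfl⟩
    exact ⟨by simp, trace_up t⟩
  · rintro ⟨h10, htr⟩
    have hd := det_eq g
    rw [h10, mul_zero, sub_zero] at hd
    rw [Matrix.trace_fin_two] at htr
    have ha : (g.1 0 0 - 1) ^ 2 = 0 := by linear_combination (g.1 0 0) * htr - hd
    have ha' : g.1 0 0 = 1 := sub_eq_zero.1 (pow_eq_zero_iff two_ne_zero |>.1 ha)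
    refine ⟨g.1 0 1, ext_entries (by simp [ha']) (by simp) (by simp [h10]) ?_⟩
    simp only [coe_up, Matrix.cons_val', Matrix.cons_val_one, Matrix.cons_val_zero, Matrix.of_apply]
    linear_combination htr - ha'

theorem sub_one_sq {g : SL} (h : g.1.trace = 2) : (g.1 - 1) * (g.1 - 1) = 0 := by
  have hd := det_eq g
  rw [Matrix.trace_fin_two] at h
  ext i j
  fin_cases i <;> fin_cases j <;> simp [Matrix.mul_apply, Fin.sum_univ_two]
  · linear_combination (g.1 0 0) * h - hd
  · linear_combination (g.1 0 1) * h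
  · linear_combination (g.1 1 0) * h
  · linear_combination (g.1 1 1) * h - hd

section char

variable (p : ℕ) [Fact p.Prime] [CharP K p]

theorem pow_prime_of_trace {g : SL} (h : g.1.trace = 2) : g ^ p = 1 := by
  apply Subtype.ext
  have : CharP M2 p := inferInstance
  have hp2 : 2 ≤ p := (Fact.out : p.Prime).two_le
  have h0 : (g.1 - 1) ^ p = 0 := by
    obtain ⟨j, hj⟩ := Nat.exists_eq_add_of_le hp2
    rw [hj, pow_add, pow_two, sub_one_sq h, zero_mul]
  rw [sub_pow_char_of_commute p (Commute.one_right g.1), one_pow] at h0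
  rw [Matrix.SpecialLinearGroup.coe_pow, Matrix.SpecialLinearGroup.coe_one]
  exact sub_eq_zero.1 h0

theorem trace_of_pow {g : SL} {k : ℕ} (h : g ^ p ^ k = 1) : g.1.trace = 2 := by
  have h1 : g.1 ^ p ^ k = 1 := by
    rw [← Matrix.SpecialLinearGroup.coe_pow, h, Matrix.SpecialLinearGroup.coe_one]
  have : CharP M2 p := inferInstance
  have hn : IsNilpotent (g.1 - 1) :=
    ⟨p ^ k, by rw [sub_pow_char_pow_of_commute p _ (Commute.one_right g.1), h1, one_pow, sub_self]⟩
  have := (Matrix.isNilpotent_trace_of_isNilpotent hn).eq_zero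
  rw [Matrix.trace_sub, Matrix.trace_one, Fintype.card_fin, sub_eq_zero] at this
  simpa using this

end char

theorem exists_of_commute {g h : SL} (hg : g.1.trace ^ 2 ≠ 4) (hc : h * g = g * h) :
    ∃ s t : K, h.1 = s • (1 : M2) + t • g.1 := by
  refine SL2Centralizer.exists_of_commute (SL2Centralizer.not_scalar_of_trace hg) ?_
  show h.1 * g.1 = g.1 * h.1
  rw [← Matrix.SpecialLinearGroup.coe_mul, hc, Matrix.SpecialLinearGroup.coe_mul]

theorem trace_lin (g : SL) (s t : K) :
    (s • (1 : M2) + t • g.1).trace = 2 * s + t * g.1.trace := by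
  simp [Matrix.trace_add, Matrix.trace_smul]; ring

/-- A matrix of trace `2` commuting with one of trace `≠ ±2` is trivial. -/
theorem eq_one_of_commute_trace (h2 : (2 : K) ≠ 0) {g h : SL} (hg : g.1.trace ^ 2 ≠ 4) (hh : h.1.trace = 2)
    (hc : h * g = g * h) : h = 1 := by
  obtain ⟨s, t, he⟩ := exists_of_commute hg hc
  have htr : 2 * s + t * g.1.trace = 2 := by rw [← trace_lin, ← he, hh]
  have hdet : s * s + g.1.trace * s * t + t * t = 1 := by
    rw [← SL2Centralizer.det_lin g s t, ← he]; exact h.2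
  have ht0 : t ^ 2 * (g.1.trace ^ 2 - 4) = 0 := by
    linear_combination (2 * s + t * g.1.trace + 2) * htr - 4 * hdet
  have ht : t = 0 := by
    rcases mul_eq_zero.1 ht0 with h' | h'
    · exact pow_eq_zero_iff two_ne_zero |>.1 h'
    · exact absurd (sub_eq_zero.1 h') hg
  subst ht
  rw [zero_mul, add_zero] at htr
  have hs : s = 1 := mul_left_cancel₀ h2 (by rw [mul_one]; exact htr)
  apply Subtype.ext
  rw [he, hs]
  simp

/-- Conjugates commuting with an element of trace `≠ ±2` are that element or its inverse. -/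
theorem eq_or_eq_inv (h2 : (2 : K) ≠ 0) {g h : SL} (hg : g.1.trace ^ 2 ≠ 4) (hh : h.1.trace = g.1.trace)
    (hc : h * g = g * h) : h = g ∨ h = g⁻¹ := by
  obtain ⟨s, t, he⟩ := exists_of_commute hg hc
  have htr : 2 * s + t * g.1.trace = g.1.trace := by rw [← trace_lin, ← he, hh]
  have hdet : s * s + g.1.trace * s * t + t * t = 1 := by
    rw [← SL2Centralizer.det_lin g s t, ← he]; exact h.2
  have ht0 : (1 - t ^ 2) * (g.1.trace ^ 2 - 4) = 0 := by
    linear_combination 4 * hdet - (2 * s + t * g.1.trace + g.1.trace) * htr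
  have ht : (1 - t) * (1 + t) = 0 := by
    rcases mul_eq_zero.1 ht0 with h' | h'
    · linear_combination h'
    · exact absurd (sub_eq_zero.1 h') hg
  rcases mul_eq_zero.1 ht with h' | h'
  · left
    have ht1 : t = 1 := (sub_eq_zero.1 h').symm
    subst ht1
    have hs : s = 0 := mul_left_cancel₀ h2 (by rw [mul_zero]; linear_combination htr)
    apply Subtype.ext
    rw [he, hs]; simp
  · right
    have ht1 : t = -1 := by linear_combination h'
    subst ht1
    have hs : s = g.1.trace := mul_left_cancel₀ h2 (by linear_combination htr)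
    obtain ⟨i00, i01, i10, i11⟩ := inv_entries g
    rw [Matrix.trace_fin_two] at hs
    apply ext_entries
    · rw [i00, he]; simp [hs]
    · rw [i01, he]; simp
    · rw [i10, he]; simp
    · rw [i11, he]; simp [hs]

/-- The centraliser of an element of trace `≠ ±2` is commutative. -/
theorem commute_of_commute {g h k : SL} (hg : g.1.trace ^ 2 ≠ 4) (h1 : h * g = g * h)
    (h2 : k * g = g * k) : h * k = k * h := by
  obtain ⟨s, t, he⟩ := exists_of_commute hg h1
  obtain ⟨s', t', he'⟩ := exists_of_commute hg h2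
  apply Subtype.ext
  rw [Matrix.SpecialLinearGroup.coe_mul, Matrix.SpecialLinearGroup.coe_mul, he, he']
  simp [Matrix.add_mul, Matrix.mul_add, smul_smul, mul_comm]
  abel

theorem neg_one_trace (g : SL) : (-g).1.trace = -g.1.trace := by
  rw [Matrix.SpecialLinearGroup.coe_neg, Matrix.trace_neg]

theorem trace_sq_eq_four {g : SL} (h : g.1.trace ^ 2 = 4) : g.1.trace = 2 ∨ g.1.trace = -2 := by
  have : (g.1.trace - 2) * (g.1.trace + 2) = 0 := by linear_combination h
  rcases mul_eq_zero.1 this with h' | h'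
  · exact Or.inl (sub_eq_zero.1 h')
  · exact Or.inr (by linear_combination h')

section gen

variable (p : ℕ) [Fact p.Prime]

/-- `SL₂(p)` is generated by the two elementary transvections. -/
theorem closure_pair : Subgroup.closure ({up (1 : ZMod p), lo (1 : ZMod p)} :
    Set (Matrix.SpecialLinearGroup (Fin 2) (ZMod p))) = ⊤ := by
  set C := Subgroup.closure ({up (1 : ZMod p), lo (1 : ZMod p)} :
    Set (Matrix.SpecialLinearGroup (Fin 2) (ZMod p)))
  have hu : ∀ t : ZMod p, up t ∈ C := fun t => by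
    have := C.pow_mem (Subgroup.subset_closure (by simp) : up (1 : ZMod p) ∈ C) t.val
    rwa [up_pow, mul_one, ZMod.natCast_zmod_val] at this
  have hl : ∀ t : ZMod p, lo t ∈ C := fun t => by
    have := C.pow_mem (Subgroup.subset_closure (by simp) : lo (1 : ZMod p) ∈ C) t.val
    rwa [lo_pow, mul_one, ZMod.natCast_zmod_val] at this
  have key : ∀ g : Matrix.SpecialLinearGroup (Fin 2) (ZMod p), g.1 1 0 ≠ 0 → g ∈ C := by
    intro g hc
    have hd := det_eq g
    have : g = up ((g.1 0 0 - 1) / g.1 1 0) * lo (g.1 1 0) * up ((g.1 1 1 - 1) / g.1 1 0) := by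
      apply ext_entries <;> simp [mul_entry] <;> field_simp
      · ring
      · linear_combination -hd
      · ring
    rw [this]
    exact C.mul_mem (C.mul_mem (hu _) (hl _)) (hu _)
  rw [eq_top_iff]
  intro g _
  by_cases hc : g.1 1 0 = 0
  · have h1 : g * lo 1 ∈ C := key _ (by
      have hd := det_eq g
      rw [hc, mul_zero, sub_zero] at hd
      simp [mul_entry, hc]
      exact right_ne_zero_of_mul_eq_one hd)
    have := C.mul_mem h1 (C.inv_mem (hl 1))
    rwa [mul_inv_cancel_right] at this
  · exact key g hc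

/-- Apply a field map and conjugate by `diag (b, 1)`. -/
def scaleSL {R : Type*} [Field R] (f : R →+* K) (b : K) (hb : b ≠ 0)
    (g : Matrix.SpecialLinearGroup (Fin 2) R) : SL :=
  ⟨!![f (g.1 0 0), b * f (g.1 0 1); b⁻¹ * f (g.1 1 0), f (g.1 1 1)], by
    rw [Matrix.det_fin_two]
    simp only [Matrix.cons_val', Matrix.cons_val_zero, Matrix.cons_val_one, Matrix.of_apply]
    have := congrArg f (det_eq g)
    simp only [map_sub, map_mul, map_one] at this
    field_simp
    linear_combination this⟩

theorem coe_scaleSL {R : Type*} [Field R] (f : R →+* K) (b : K) (hb : b ≠ 0)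
    (g : Matrix.SpecialLinearGroup (Fin 2) R) :
    (scaleSL f b hb g).1 = !![f (g.1 0 0), b * f (g.1 0 1); b⁻¹ * f (g.1 1 0), f (g.1 1 1)] := rfl

/-- Opposite transvections with parameters `b`, `b⁻¹` generate a copy of `SL₂(p)`. -/
theorem exists_SL2p [CharP K p] {G : Subgroup SL} {b : K} (hb : b ≠ 0) (h1 : up b ∈ G)
    (h2 : lo b⁻¹ ∈ G) :
    ∃ H : Subgroup SL, H ≤ G ∧ Nonempty (H ≃* Matrix.SpecialLinearGroup (Fin 2) (ZMod p)) := by
  let f : ZMod p →+* K := ZMod.castHom dvd_rfl K
  have hf : Function.Injective f := f.injective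
  let φ : Matrix.SpecialLinearGroup (Fin 2) (ZMod p) →* SL :=
    { toFun := scaleSL f b hb
      map_one' := by apply ext_entries <;> simp [coe_scaleSL]
      map_mul' := fun g h => by
        apply ext_entries <;> simp [coe_scaleSL, mul_entry] <;> field_simp <;> ring }
  have hφ : ∀ g, (φ g).1 =
      !![f (g.1 0 0), b * f (g.1 0 1); b⁻¹ * f (g.1 1 0), f (g.1 1 1)] := fun _ => rfl
  have hinj : Function.Injective φ := fun g h e => by
    have e' := congrArg Subtype.val e
    have e00 := congrFun (congrFun e' 0) 0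
    have e01 := congrFun (congrFun e' 0) 1
    have e10 := congrFun (congrFun e' 1) 0
    have e11 := congrFun (congrFun e' 1) 1
    simp [hφ, hb] at e00 e01 e10 e11
    exact ext_entries (hf e00) (hf e01) (hf e10) (hf e11)
  refine ⟨φ.range, ?_, ⟨(MonoidHom.ofInjective hinj).symm⟩⟩
  rw [MonoidHom.range_eq_map, ← closure_pair p, MonoidHom.map_closure, Subgroup.closure_le]
  rintro _ ⟨g, (rfl | rfl), rfl⟩
  · rw [SetLike.mem_coe, show φ (up 1) = up b from by apply ext_entries <;> simp [hφ]]
    exact h1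
  · rw [SetLike.mem_coe, show φ (lo 1) = lo b⁻¹ from by apply ext_entries <;> simp [hφ]]
    exact h2

end gen

end CfsgLib.Dickson
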