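import Cfsg.Agent.Lib.Dickson.Counting

/-!
Dickson: a finite subgroup of `SL₂` in odd characteristic with two non-commuting unipotent elements
contains a copy of `SL₂(p)`.
-/

set_option autoImplicit false
set_option maxHeartbeats 400000

namespace CfsgLib.Dickson

open Matrix

variable {K : Type*} [Field K]

local notation "M2" => Matrix (Fin 2) (Fin 2) K
local notation "SL" => Matrix.SpecialLinearGroup (Fin 2) K

section setup

variable {G : Subgroup (Matrix.SpecialLinearGroup (Fin 2) K)} [Finite G]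
  (p : ℕ) [Fact p.Prime] [CharP K p]

instance finite_range_diagHom : Finite (diagHom G).range :=
  Finite.of_surjective _ (diagHom G).rangeRestrict_surjective

include p in
theorem index_shape {b c : K} (hb : b ≠ 0) (hbG : up b ∈ G) (hc : c ≠ 0) (hcG : lo c ∈ G) :
    ∃ k, 0 < k ∧ (nG G).index = Nat.card (param G) * k + 1 ∧
      (k = 1 → ∃ t : K, t ≠ 0 ∧ up t ∈ G ∧ lo t⁻¹ ∈ G) := by
  classical
  set S : Set K := {β | ∃ h : G, (h : SL).1 1 0 ≠ 0 ∧ β = (h : SL).1 0 0 / (h : SL).1 1 0} with hS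
  set W : Set (G ⧸ nG G) := {x | x ≠ ((1 : G) : G ⧸ nG G)} with hW
  have hout : ∀ x ∈ W, ((x.out : G) : SL).1 1 0 ≠ 0 := by
    intro x hx h0
    apply hx
    rw [← QuotientGroup.out_eq' x, QuotientGroup.eq, mul_one]
    exact (nG G).inv_mem h0
  have hWS : W.ncard = S.ncard := by
    refine Set.ncard_congr (fun x _ => ((x.out : G) : SL).1 0 0 / ((x.out : G) : SL).1 1 0)
      (fun x hx => ⟨x.out, hout x hx, rfl⟩) (fun x y hx hy e => ?_) ?_
    · rw [← QuotientGroup.out_eq' x, ← QuotientGroup.out_eq' y, QuotientGroup.eq]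
      show (((x.out⁻¹ * y.out : G) : SL)).1 1 0 = 0
      simp only [Subgroup.coe_mul, Subgroup.coe_inv]
      rw [mul_entry, (inv_entries _).2.2.1, (inv_entries _).2.2.2]
      rw [div_eq_div_iff (hout x hx) (hout y hy)] at e
      linear_combination e
    · rintro β ⟨h, h10, rfl⟩
      obtain ⟨m, hm⟩ := QuotientGroup.mk_out_eq_mul (nG G) h
      have hm0 : ((m : G) : SL).1 1 0 = 0 := m.2
      have hd := det_eq ((m : G) : SL)
      rw [hm0, mul_zero, sub_zero] at hd
      refine ⟨(h : G ⧸ nG G), fun e => h10 ?_, ?_⟩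
      · rw [QuotientGroup.eq, mul_one] at e
        exact (Subgroup.inv_mem_iff (nG G)).1 e
      · show ((((h : G ⧸ nG G).out : G)) : SL).1 0 0 / _ = _
        rw [hm, Subgroup.coe_mul, mul_entry, mul_entry, hm0, mul_zero, mul_zero, add_zero, add_zero,
          mul_div_mul_right _ _ (left_ne_zero_of_mul_eq_one hd)]
  have hSne : c⁻¹ ∈ S := ⟨⟨lo c, hcG⟩, by simpa using hc, by simp⟩
  have htrans : ∀ β ∈ S, ∀ t ∈ param G, β + t ∈ S := by
    rintro _ ⟨h, h10, rfl⟩ t ht
    refine ⟨⟨up t, ht⟩ * h, ?_, ?_⟩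
    · rw [Subgroup.coe_mul, mul_entry]; simpa using h10
    · rw [Subgroup.coe_mul, mul_entry, mul_entry]
      simp
      field_simp
  have : Finite (param G) := Finite.of_equiv _ uEquiv.symm
  set π : K → K ⧸ param G := QuotientAddGroup.mk with hπ
  have hSim : S.ncard = Nat.card (param G) * (π '' S).ncard := by
    rw [← Nat.card_coe_set_eq, ← Nat.card_coe_set_eq, ← Nat.card_prod]
    refine (Nat.card_eq_of_bijective (fun x : param G × (π '' S) =>
      (⟨(x.2 : K ⧸ param G).out + (x.1 : K), by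
        obtain ⟨s, hs, hsx⟩ := x.2.2
        obtain ⟨t, ht⟩ := QuotientAddGroup.mk_out_eq_add (param G) s
        rw [← hsx]
        show (QuotientAddGroup.mk s : K ⧸ param G).out + (x.1 : K) ∈ S
        rw [ht, add_assoc]
        exact htrans s hs _ ((param G).add_mem t.2 x.1.2)⟩ : S)) ⟨?_, ?_⟩).symm
    · rintro ⟨t, x⟩ ⟨t', x'⟩ e
      have e' : (x : K ⧸ param G).out + (t : K) = (x' : K ⧸ param G).out + (t' : K) := congrArg Subtype.val e
      have hxx : (x : K ⧸ param G) = x' := by
        rw [← QuotientAddGroup.out_eq' (x : K ⧸ param G), ← QuotientAddGroup.out_eq' (x' : K ⧸ param G),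
          QuotientAddGroup.eq]
        have : -(x : K ⧸ param G).out + (x' : K ⧸ param G).out = (t : K) - t' := by linear_combination -e'
        rw [this]
        exact (param G).sub_mem t.2 t'.2
      rw [hxx] at e'
      exact Prod.ext (Subtype.ext (add_left_cancel e')) (Subtype.ext hxx)
    · rintro ⟨s, hs⟩
      obtain ⟨t, ht⟩ := QuotientAddGroup.mk_out_eq_add (param G) s
      refine ⟨(⟨-t, neg_mem t.2⟩, ⟨π s, s, hs, rfl⟩), Subtype.ext ?_⟩
      show (QuotientAddGroup.mk s : K ⧸ param G).out + -(t : K) = s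
      rw [ht, add_neg_cancel_right]
  have hSfin : S.Finite := Set.Finite.subset (Set.finite_range
    fun h : G => (h : SL).1 0 0 / (h : SL).1 1 0) (by rintro _ ⟨h, -, rfl⟩; exact ⟨h, rfl⟩)
  have hkpos : 0 < (π '' S).ncard :=
    (Set.ncard_pos (hSfin.image π)).2 ⟨_, Set.mem_image_of_mem π hSne⟩
  have hWcard : W.ncard + 1 = (nG G).index := by
    have := Set.ncard_add_ncard_compl ({((1 : G) : G ⧸ nG G)} : Set (G ⧸ nG G))
    rw [Set.ncard_singleton] at this
    rw [Subgroup.index, ← this, add_comm]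
    rfl
  refine ⟨(π '' S).ncard, hkpos, by rw [← hWcard, hWS, hSim], fun hk1 => ?_⟩
  -- the point fixed by the lower unipotent element
  obtain ⟨h, hh⟩ := exists_conj_uG p hb hbG (g := (⟨lo c, hcG⟩ : G))
    (by show (lo c).1.trace = 2; simp [Matrix.trace_fin_two, one_add_one_eq_two])
  obtain ⟨t, ht⟩ := hh
  replace ht : (h : SL)⁻¹ * lo c * (h : SL) = up t := ht
  have hconj : (h : SL) * up t * (h : SL)⁻¹ = lo c := by rw [← ht]; group
  have ht0 : t ≠ 0 := by
    rintro rfl
    rw [up_zero, mul_one, mul_inv_cancel] at hconj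
    have := congrArg (fun y : SL => y.1 1 0) hconj
    simp at this
    exact hc this.symm
  have h00 : (h : SL).1 0 0 = 0 := by
    have := (conj_up (h : SL) t).1
    rw [hconj] at this
    simpa [ht0] using this.symm
  have h10 : (h : SL).1 1 0 ≠ 0 := fun e => by
    have := det_eq (h : SL)
    rw [h00, e, zero_mul, mul_zero, sub_zero] at this
    exact zero_ne_one this
  have h0S : (0 : K) ∈ S := ⟨h, h10, by rw [h00, zero_div]⟩
  obtain ⟨a, ha⟩ := Set.ncard_eq_one.1 hk1
  have e1 : π 0 = a := by simpa [ha] using Set.mem_image_of_mem π h0S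
  have e2 : π c⁻¹ = a := by simpa [ha] using Set.mem_image_of_mem π hSne
  have : π 0 = π c⁻¹ := e1.trans e2.symm
  rw [hπ, QuotientAddGroup.eq, neg_zero, zero_add] at this
  exact ⟨c⁻¹, inv_ne_zero hc, this, by rwa [inv_inv]⟩

include p in
theorem torus_bounds (hp : p ≠ 2) (hneg : -1 ∈ G) {b : K} (hb : b ≠ 0) (hbG : up b ∈ G) :
    3 ≤ Nat.card (param G) ∧ 2 ∣ Nat.card (diagHom G).range ∧
      Nat.card (diagHom G).range ≤ 2 * (Nat.card (param G) - 1) := by
  classical
  have : Finite (param G) := Finite.of_equiv _ uEquiv.symm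
  have hq : 3 ≤ Nat.card (param G) := by
    obtain ⟨k, hk⟩ := IsPGroup.iff_card.1 (isPGroup_uG (G := G) p)
    rw [card_uG] at hk
    have h1 : 1 < Nat.card (param G) :=
      Finite.one_lt_card_iff_nontrivial.2 ⟨⟨⟨b, hbG⟩, 0, fun e => hb (congrArg Subtype.val e)⟩⟩
    have hk0 : k ≠ 0 := by rintro rfl; simp [hk] at h1
    have : p ≤ p ^ k := Nat.le_self_pow hk0 p
    have := (Fact.out : p.Prime).two_le
    omega
  set R := (diagHom G).range with hR
  let m : nG G := ⟨⟨-1, hneg⟩, by show (-1 : SL).1 1 0 = 0; simp⟩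
  have hm : (diagHom G m : K) = -1 := by rw [coe_diagHom]; simp [m]
  have hord : orderOf (diagHom G m) = 2 := by
    refine orderOf_eq_prime (Units.ext (by rw [Units.val_pow_eq_pow_val, hm]; simp)) fun e => ?_
    have := congrArg Units.val e
    rw [hm, Units.val_one] at this
    exact two_ne (K := K) p hp (by linear_combination -this)
  have h2 : 2 ∣ Nat.card R := by
    have := Subgroup.orderOf_dvd_natCard (x := diagHom G m) R ⟨m, rfl⟩
    rwa [hord] at this
  refine ⟨hq, h2, ?_⟩
  let sq : R →* Kˣ := (powMonoidHom 2).comp R.subtype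
  have hker : Nat.card sq.ker ≤ 2 := by
    have h := Nat.card_le_card_of_injective (fun x : sq.ker => decide (((x : R) : Kˣ) = 1)) fun x y e => by
      have key : ∀ z : sq.ker, ((z : R) : Kˣ) = 1 ∨ (((z : R) : Kˣ) : K) = -1 := fun z => by
        have hz : (((z : R) : Kˣ) : K) ^ 2 = 1 := by
          rw [← Units.val_pow_eq_pow_val, ← Units.val_one]
          exact congrArg Units.val z.2
        rcases sq_eq_one_iff.1 hz with h | h
        · exact Or.inl (Units.ext h)
        · exact Or.inr h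
      simp only [decide_eq_decide] at e
      apply Subtype.ext; apply Subtype.ext
      rcases key x with hx | hx
      · rw [hx, e.1 hx]
      · rcases key y with hy | hy
        · rw [hy, e.2 hy]
        · exact Units.ext (hx.trans hy.symm)
    simpa using h
  have hsqmem : ∀ z ∈ sq.range, up (b * ((z : Kˣ) : K)) ∈ G := by
    rintro z ⟨⟨r, n, hn⟩, rfl⟩
    obtain ⟨t, ht⟩ : (n : G) * ⟨up b, hbG⟩ * (n : G)⁻¹ ∈ uG G := conj_mem_uG n.2 ⟨b, rfl⟩
    replace ht : ((n : G) : SL) * up b * ((n : G) : SL)⁻¹ = up t := ht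
    have h01 := (conj_up ((n : G) : SL) b).1
    rw [ht] at h01
    simp at h01
    have hr : ((sq ⟨r, n, hn⟩ : Kˣ) : K) = ((n : G) : SL).1 0 0 ^ 2 := by
      rw [← coe_diagHom (G := G) n, hn, ← Units.val_pow_eq_pow_val]
      simp only [sq, MonoidHom.comp_apply, powMonoidHom_apply, Subgroup.coe_subtype]
    rw [hr, ← h01, ← ht]
    exact G.mul_mem (G.mul_mem (n : G).2 hbG) (G.inv_mem (n : G).2)
  have hrange : Nat.card sq.range ≤ Nat.card (param G) - 1 := by
    have h := Nat.card_le_card_of_injective (fun x : sq.range =>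
      (⟨⟨b * (((x : Kˣ)) : K), hsqmem x.1 x.2⟩, fun e => ?_⟩ : {t : param G // t ≠ 0})) ?_
    · refine h.trans_eq ?_
      have := Fintype.ofFinite (param G)
      rw [Nat.card_eq_fintype_card, Nat.card_eq_fintype_card, Fintype.card_subtype_compl,
        Fintype.card_subtype_eq]
    · exact mul_ne_zero hb (x : Kˣ).ne_zero (congrArg Subtype.val e)
    · intro x y e
      have e' : b * (((x : Kˣ)) : K) = b * (((y : Kˣ)) : K) := congrArg (fun z => ((z.1 : param G) : K)) e
      exact Subtype.ext (Units.ext (mul_left_cancel₀ hb e'))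
  have h3 := sq.ker.card_mul_index
  rw [Subgroup.index_ker] at h3
  rw [← h3]
  calc Nat.card sq.ker * Nat.card sq.range ≤ 2 * (Nat.card (param G) - 1) := Nat.mul_le_mul hker hrange
    _ = _ := rfl

include p in
theorem exists_torus (hp : p ≠ 2) (h4 : 4 ≤ Nat.card (diagHom G).range) :
    ∃ g : G, tr G g ^ 2 ≠ 4 ∧ Nat.card (cen G g) = Nat.card (diagHom G).range := by
  classical
  set R := (diagHom G).range with hR
  have hker : (diagHom G).ker = (uG G).subgroupOf (nG G) := ker_diagHom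
  have hidx : ((uG G).subgroupOf (nG G)).index = Nat.card R := by rw [← hker, Subgroup.index_ker]
  have hpR : ¬ p ∣ Nat.card R := by
    intro hd
    obtain ⟨x, hx⟩ := exists_prime_orderOf_dvd_card' p hd
    have h1 : (((x : Kˣ)) : K) ^ p = 1 := by
      rw [← Units.val_pow_eq_pow_val, ← Units.val_one]
      have : x ^ p = 1 := hx ▸ pow_orderOf_eq_one x
      exact congrArg (fun z : R => (((z : Kˣ)) : K)) this
    have h2 : (((x : Kˣ)) : K) = 1 := by
      have : ((((x : Kˣ)) : K) - 1) ^ p = 0 := by rw [sub_pow_char, h1, one_pow, sub_self]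
      exact sub_eq_zero.1 (pow_eq_zero_iff (Fact.out : p.Prime).ne_zero |>.1 this)
    have : x = 1 := Subtype.ext (Units.ext h2)
    rw [this, orderOf_one] at hx
    exact (Fact.out : p.Prime).one_lt.ne hx
  have hnormal : ((uG G).subgroupOf (nG G)).Normal := hker ▸ inferInstance
  have hcop : Nat.Coprime (Nat.card ((uG G).subgroupOf (nG G))) ((uG G).subgroupOf (nG G)).index := by
    obtain ⟨k, hk⟩ := IsPGroup.iff_card.1 (isPGroup_uG (G := G) p)
    rw [hidx, Nat.card_congr (Subgroup.subgroupOfEquivOfLe uG_le_nG).toEquiv, hk]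
    exact Nat.Coprime.pow_left k ((Fact.out : p.Prime).coprime_iff_not_dvd.2 hpR)
  obtain ⟨T, hT⟩ := Subgroup.exists_right_complement'_of_coprime hcop
  have hTcard : Nat.card T = Nat.card R := by rw [← hT.symm.index_eq_card, hidx]
  have hTinj : ∀ x ∈ T, ∀ y ∈ T, diagHom G x = diagHom G y → x = y := by
    intro x hx y hy e
    have h1 : x * y⁻¹ ∈ (diagHom G).ker := by rw [MonoidHom.mem_ker, map_mul, map_inv, e, mul_inv_cancel]
    rw [hker] at h1
    exact mul_inv_eq_one.1 (Subgroup.disjoint_def.1 hT.disjoint h1 (T.mul_mem hx (T.inv_mem hy)))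
  obtain ⟨r, hr, hr2⟩ : ∃ r ∈ R, ((r : Kˣ) : K) ^ 2 ≠ 1 := by
    by_contra! h
    have hle := Nat.card_le_card_of_injective (fun x : R => decide ((x : Kˣ) = 1)) fun x y e => by
      simp only [decide_eq_decide] at e
      apply Subtype.ext
      rcases sq_eq_one_iff.1 (h x x.2) with hx | hx
      · have hx1 : (x : Kˣ) = 1 := Units.ext hx
        rw [hx1, e.1 hx1]
      · rcases sq_eq_one_iff.1 (h y y.2) with hy | hy
        · have hy1 : (y : Kˣ) = 1 := Units.ext hy
          rw [hy1, e.2 hy1]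
        · exact Units.ext (hx.trans hy.symm)
    rw [Nat.card_eq_fintype_card (α := Bool), Fintype.card_bool] at hle
    omega
  obtain ⟨n, rfl⟩ := hr
  obtain ⟨⟨⟨u, hu⟩, ⟨x, hx⟩⟩, hux⟩ := hT.2 n
  have hun : diagHom G u = 1 := by rw [← MonoidHom.mem_ker, hker]; exact hu
  have hxn : diagHom G x = diagHom G n := by
    rw [← show u * x = n from hux, map_mul, hun, one_mul]
  rw [← hxn] at hr2
  set a : K := ((diagHom G x : Kˣ) : K) with ha
  have ha' : ((x : G) : SL).1 0 0 = a := rfl
  have h10 : ((x : G) : SL).1 1 0 = 0 := x.2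
  have hd := det_eq ((x : G) : SL)
  rw [h10, mul_zero, sub_zero, ha'] at hd
  have htr : tr G (x : G) ^ 2 ≠ 4 := by
    intro h
    apply hr2
    have h' : (a + ((x : G) : SL).1 1 1) ^ 2 = 4 := by
      rw [← h]; show _ = ((x : G) : SL).1.trace ^ 2; rw [Matrix.trace_fin_two, ha']
    have hsq : (a - ((x : G) : SL).1 1 1) ^ 2 = 0 := by linear_combination h' - 4 * hd
    have := sub_eq_zero.1 (pow_eq_zero_iff two_ne_zero |>.1 hsq)
    rw [← this] at hd
    linear_combination hd
  refine ⟨x, htr, ?_⟩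
  rw [← hTcard]
  have hle : T.map (nG G).subtype ≤ cen G (x : G) := by
    rintro _ ⟨y, hy, rfl⟩
    refine mem_cen.2 ?_
    have := hTinj _ (T.mul_mem hy hx) _ (T.mul_mem hx hy) (by rw [map_mul, map_mul, mul_comm])
    exact congrArg Subtype.val this
  have hcenN : cen G (x : G) ≤ nG G := by
    intro y hy
    obtain ⟨s, t, he⟩ := exists_of_commute htr (congrArg Subtype.val (mem_cen.1 hy))
    show (y : SL).1 1 0 = 0
    rw [he]; simp [h10]
  have hup : Nat.card (cen G (x : G)) ≤ Nat.card R := by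
    refine Nat.card_le_card_of_injective
      (fun y : cen G (x : G) => (⟨diagHom G ⟨y, hcenN y.2⟩, ⟨_, rfl⟩⟩ : R)) fun y z e => ?_
    have e' : diagHom G ⟨y, hcenN y.2⟩ = diagHom G ⟨z, hcenN z.2⟩ := congrArg Subtype.val e
    have h1 : (⟨y, hcenN y.2⟩ : nG G) * (⟨z, hcenN z.2⟩ : nG G)⁻¹ ∈ (diagHom G).ker := by
      rw [MonoidHom.mem_ker, map_mul, map_inv, e', mul_inv_cancel]
    rw [hker, Subgroup.mem_subgroupOf] at h1
    have h3 : (y : G) * (z : G)⁻¹ = 1 := Subtype.ext (eq_one_of_commute_trace (two_ne p hp) htr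
      (mem_uG.1 h1).2 (congrArg Subtype.val (mem_cen.1 ((cen G (x : G)).mul_mem y.2 ((cen G (x : G)).inv_mem z.2)))))
    exact Subtype.ext (mul_inv_eq_one.1 h3)
  rw [hTcard]
  refine le_antisymm hup ?_
  rw [← hTcard, ← Subgroup.card_map_of_injective (nG G).subtype_injective (K := T)]
  exact Subgroup.card_le_of_le hle

/-- In the exceptional configuration of order `120` some proper subgroup has non-commuting unipotent
elements. -/
theorem exception (hp : p ≠ 2) (hneg : -1 ∈ G) (hp3 : p = 3) (hG : Nat.card G = 120) {g₀ g₁ : G}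
    (hg₀ : tr G g₀ ^ 2 ≠ 4) (hg₁ : tr G g₁ ^ 2 ≠ 4) (hc₀ : Nat.card (cen G g₀) = 4)
    (hn₀ : Nat.card (Subgroup.normalizer (cen G g₀ : Set G)) = 8)
    (hc₁ : Nat.card (cen G g₁) = 10) (hcls : (cls G g₀).ncard = 30)
    (hall : ∀ x : G, tr G x ^ 2 ≠ 4 → x ∈ cls G g₀ ∨ x ∈ cls G g₁) :
    ∃ X : Subgroup G, X ≠ ⊤ ∧ (⟨-1, hneg⟩ : G) ∈ X ∧
      ∃ u ∈ X, ∃ v ∈ X, tr G u = 2 ∧ tr G v = 2 ∧ u * v ≠ v * u := by
  classical
  set C := cen G g₀ with hC
  set Q := Subgroup.normalizer (C : Set G) with hQ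
  set N := Subgroup.normalizer (Q : Set G) with hN
  have hmC : (⟨-1, hneg⟩ : G) ∈ C := mem_cen.2 (Subtype.ext (by simp))
  have hCQ : C ≤ Q := Subgroup.le_normalizer
  have hR15 : N.index ∣ 15 := by
    have h1 : Q.index = 15 := by
      have := Q.card_mul_index
      rw [hn₀, hG] at this
      omega
    exact h1 ▸ Subgroup.index_dvd_of_le Subgroup.le_normalizer
  -- 2-power order elements of trace ±2 are ±1
  have hQtr : ∀ x ∈ Q, tr G x ^ 2 = 4 → x = 1 ∨ x = ⟨-1, hneg⟩ := by
    intro x hx htr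
    have hx8 : orderOf x ∣ 8 := hn₀ ▸ Subgroup.orderOf_dvd_natCard _ hx
    rcases trace_sq_eq_four htr with h | h
    · left
      have hp' : x ^ p = 1 := Subtype.ext (by simpa using pow_prime_of_trace p (g := (x : SL)) h)
      exact orderOf_eq_one_iff.1 (Nat.eq_one_of_dvd_coprimes (by subst hp3; decide : Nat.Coprime p 8)
        (orderOf_dvd_of_pow_eq_one hp') hx8)
    · right
      set y : G := ⟨-1, hneg⟩ * x with hy
      have hyQ : y ∈ Q := Q.mul_mem (hCQ hmC) hx
      have hytr : (y : SL).1.trace = 2 := by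
        show ((-1 : SL) * (x : SL)).1.trace = 2
        rw [neg_one_mul, neg_one_trace]
        exact neg_eq_iff_eq_neg.2 h
      have hp' : y ^ p = 1 := Subtype.ext (by simpa using pow_prime_of_trace p (g := (y : SL)) hytr)
      have hy1 : y = 1 := orderOf_eq_one_iff.1 (Nat.eq_one_of_dvd_coprimes
        (by subst hp3; decide : Nat.Coprime p 8) (orderOf_dvd_of_pow_eq_one hp')
        (hn₀ ▸ Subgroup.orderOf_dvd_natCard _ hyQ))
      have : (⟨-1, hneg⟩ : G) * (⟨-1, hneg⟩ * x) = ⟨-1, hneg⟩ * 1 := by rw [← hy, hy1]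
      rw [← mul_assoc, mul_one, show (⟨-1, hneg⟩ : G) * ⟨-1, hneg⟩ = 1 from Subtype.ext (by simp), one_mul] at this
      exact this
  have hR5 : 5 ≤ N.index := by
    have h6 : ({x : G | x ∈ Q ∧ tr G x ^ 2 ≠ 4}).ncard ≤ 6 := by
      have hm1 : (⟨-1, hneg⟩ : G) ≠ 1 := fun e => neg_one_ne p hp (congrArg Subtype.val e)
      have hsub : {x : G | x ∈ Q ∧ tr G x ^ 2 ≠ 4} ⊆ ((Q : Subgroup G) : Set G) \ {1, ⟨-1, hneg⟩} := by
        rintro x ⟨h1, h2⟩
        refine ⟨h1, ?_⟩
        rintro (rfl | rfl)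
        · exact h2 (by rw [tr_one]; norm_num)
        · apply h2
          show (-1 : SL).1.trace ^ 2 = 4
          rw [neg_one_trace (1 : SL), Matrix.SpecialLinearGroup.coe_one, Matrix.trace_fin_two,
            Matrix.one_apply_eq, Matrix.one_apply_eq]
          norm_num
      refine (Set.ncard_le_ncard hsub).trans ?_
      rw [Set.ncard_sdiff (by rintro x (rfl | rfl); exacts [Q.one_mem, hCQ hmC]), Set.ncard_pair hm1.symm,
        ← Nat.card_coe_set_eq]
      exact (congrArg (· - 2) hn₀).le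
    have hconjN : ∀ {m y : G}, m ∈ N → (y ∈ Q ↔ m * y * m⁻¹ ∈ Q) := fun hm => Subgroup.mem_normalizer_iff.1 hm _
    choose k hk using fun x : cls G g₀ => x.2.2
    have hmem : ∀ x : cls G g₀, ((k x : G ⧸ N).out)⁻¹ * (x : G) * (k x : G ⧸ N).out ∈
        {y : G | y ∈ Q ∧ tr G y ^ 2 ≠ 4} := fun x => by
      obtain ⟨m, hm⟩ := QuotientGroup.mk_out_eq_mul N (k x)
      refine ⟨?_, by rw [tr_conj']; exact x.2.1⟩
      rw [hm, show (k x * (m : G))⁻¹ * (x : G) * (k x * m) = (m : G)⁻¹ * ((k x)⁻¹ * x * k x) * ((m : G)⁻¹)⁻¹ by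
        group]
      exact (hconjN (N.inv_mem m.2)).1 (hCQ (hk x))
    have := Nat.card_le_card_of_injective (fun x : cls G g₀ => (((k x : G ⧸ N)),
      (⟨_, hmem x⟩ : {y : G | y ∈ Q ∧ tr G y ^ 2 ≠ 4}))) fun x x' e => by
      obtain ⟨e1, e2⟩ := Prod.mk.inj e
      have e2' := congrArg Subtype.val e2
      simp only [e1] at e2'
      exact Subtype.ext (mul_left_cancel (mul_right_cancel e2'))
    rw [Nat.card_prod, Nat.card_coe_set_eq, hcls, Nat.card_coe_set_eq] at this
    have h30 : 30 ≤ N.index * 6 := this.trans (Nat.mul_le_mul_left _ h6)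
    omega
  have hR : N.index = 5 := by
    have h15 : N.index ≠ 15 := by
      intro h15
      have hNQ : N = Q := by
        refine (Subgroup.eq_of_le_of_card_ge Subgroup.le_normalizer ?_).symm
        have := N.card_mul_index
        rw [h15, hG] at this
        rw [hn₀]
        show Nat.card N ≤ 8
        omega
      obtain ⟨h, hhQ, hhC⟩ : ∃ h ∈ Q, h ∉ C := by
        by_contra! hcon
        have := Subgroup.card_le_of_le (hcon : Q ≤ C)
        omega
      have hhs : tr G h ^ 2 ≠ 4 := fun e => hhC (by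
        rcases hQtr h hhQ e with rfl | rfl
        · exact C.one_mem
        · exact hmC)
      obtain ⟨-, k, hk⟩ : h ∈ cls G g₀ := by
        rcases hall h hhs with h' | ⟨-, k, hk⟩
        · exact h'
        · exfalso
          have hord : orderOf h ∣ 8 := hn₀ ▸ Subgroup.orderOf_dvd_natCard _ hhQ
          have hord' : orderOf h ∣ 10 := by
            have := hc₁ ▸ Subgroup.orderOf_dvd_natCard _ hk
            rwa [show k⁻¹ * h * k = MulAut.conj k⁻¹ h by simp, MulEquiv.orderOf_eq] at this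
          have h2 : h ^ 2 = 1 := orderOf_dvd_iff_pow_eq_one.1 ((Nat.dvd_gcd hord hord').trans (by decide))
          apply hhs
          have hhi : h⁻¹ = h := inv_eq_of_mul_eq_one_left (by rw [← pow_two, h2])
          obtain ⟨i00, i01, i10, i11⟩ := inv_entries (h : SL)
          have he : ((h⁻¹ : G) : SL) = (h : SL) := by rw [hhi]
          rw [Subgroup.coe_inv] at he
          rw [he] at i00 i01 i10
          have hd := det_eq (h : SL)
          have h2' := two_ne (K := K) p hp
          have hb0 : (h : SL).1 0 1 = 0 := mul_left_cancel₀ h2' (by linear_combination i01)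
          show (h : SL).1.trace ^ 2 = 4
          rw [Matrix.trace_fin_two]
          rw [hb0, zero_mul, sub_zero] at hd
          linear_combination 4 * hd + ((h : SL).1 0 0 - (h : SL).1 1 1) * i00
      -- the torus through h
      have hCh : cen G (k⁻¹ * h * k) = C := cen_eq hg₀ hk (by rwa [tr_conj'])
      have hmemh : ∀ y : G, y ∈ cen G h ↔ k⁻¹ * y * k ∈ C := fun y => by
        rw [← hCh, cen_conj, show k * (k⁻¹ * y * k) * k⁻¹ = y by group]
      have hcard : Nat.card (cen G h) = 4 := by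
        rw [← hc₀, Nat.card_congr]
        refine Equiv.subtypeEquiv (MulAut.conj k⁻¹).toEquiv fun y => ?_
        rw [hmemh]
        simp [MulAut.conj_apply, mul_assoc]
      have hhpow : Subgroup.zpowers h = cen G h := by
        refine Subgroup.eq_of_le_of_card_ge (Subgroup.zpowers_le.2 (self_mem_cen h)) ?_
        rw [hcard, Nat.card_zpowers]
        have h4 : orderOf h ∣ 4 := hcard ▸ Subgroup.orderOf_dvd_natCard _ (self_mem_cen h)
        by_contra hlt
        have h2 : h ^ 2 = 1 := by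
          have hle := Nat.le_of_dvd (by omega) h4
          have hpos := orderOf_pos h
          apply orderOf_dvd_iff_pow_eq_one.1
          have h3 : orderOf h ≤ 3 := by omega
          interval_cases hh : orderOf h <;> omega
        apply hhs
        have hhi : h⁻¹ = h := inv_eq_of_mul_eq_one_left (by rw [← pow_two, h2])
        obtain ⟨i00, i01, i10, i11⟩ := inv_entries (h : SL)
        have he : ((h⁻¹ : G) : SL) = (h : SL) := by rw [hhi]
        rw [Subgroup.coe_inv] at he
        rw [he] at i00 i01 i10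
        have hd := det_eq (h : SL)
        have h2' := two_ne (K := K) p hp
        have hb0 : (h : SL).1 0 1 = 0 := mul_left_cancel₀ h2' (by linear_combination i01)
        show (h : SL).1.trace ^ 2 = 4
        rw [Matrix.trace_fin_two]
        rw [hb0, zero_mul, sub_zero] at hd
        linear_combination 4 * hd + ((h : SL).1 0 0 - (h : SL).1 1 1) * i00
      have hDQ : cen G h ≤ Q := hhpow ▸ Subgroup.zpowers_le.2 hhQ
      have hDn : ((cen G h).subgroupOf Q).Normal := by
        apply Subgroup.normal_of_index_eq_two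
        have := ((cen G h).subgroupOf Q).card_mul_index
        rw [Nat.card_congr (Subgroup.subgroupOfEquivOfLe hDQ).toEquiv, hcard, hn₀] at this
        omega
      have hQle : Q ≤ Subgroup.normalizer (cen G h : Set G) :=
        (Subgroup.normal_subgroupOf_iff_le_normalizer hDQ).1 hDn
      have hQeq : Q = Subgroup.normalizer (cen G h : Set G) := by
        refine Subgroup.eq_of_le_of_card_ge hQle ?_
        rw [hn₀]
        rcases card_normalizer p hp hhs with e | e <;> omega
      have hkN : k ∈ N := by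
        suffices ∀ y ∈ Q, k * y * k⁻¹ ∈ Q from Subgroup.mem_normalizer_iff.2 fun y => ⟨this y, fun hy => by
          have hinj : Function.Injective (fun y : Q => (⟨k * y * k⁻¹, this y y.2⟩ : Q)) := fun a b e =>
            Subtype.ext (mul_left_cancel (mul_right_cancel (congrArg Subtype.val e)))
          obtain ⟨z, hz⟩ := (Finite.injective_iff_surjective.1 hinj) ⟨_, hy⟩
          exact (mul_left_cancel (mul_right_cancel (congrArg Subtype.val hz))) ▸ z.2⟩
        intro y hy
        rw [hQeq, Subgroup.mem_normalizer_iff]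
        intro z
        rw [hmemh, hmemh]
        have := Subgroup.mem_normalizer_iff.1 hy (k⁻¹ * z * k)
        rw [this, show y * (k⁻¹ * z * k) * y⁻¹ = k⁻¹ * (k * y * k⁻¹ * z * (k * y * k⁻¹)⁻¹) * k by group]
      rw [hNQ] at hkN
      apply hhC
      have := (Subgroup.mem_normalizer_iff.1 hkN (k⁻¹ * h * k)).1 hk
      simpa [mul_assoc] using this
    obtain ⟨i, hi⟩ := hR15
    have hi3 : i ≤ 3 := by nlinarith
    interval_cases i <;> omega
  have hN24 : Nat.card N = 24 := by
    have := N.card_mul_index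
    rw [hR, hG] at this
    omega
  obtain ⟨u, huo⟩ := exists_prime_orderOf_dvd_card' (G := N) 3 (by omega)
  have hu1 : (u : G) ^ 3 = 1 := by
    rw [← Subgroup.coe_pow, ← huo, pow_orderOf_eq_one, Subgroup.coe_one]
  have hutr : tr G (u : G) = 2 := by
    refine trace_of_pow p (k := 1) ?_
    rw [pow_one, hp3]
    exact congrArg Subtype.val hu1
  refine ⟨N, fun h => by rw [h, Subgroup.card_top, hG] at hN24; omega, Subgroup.le_normalizer (hCQ hmC), ?_⟩
  by_contra! hcomm
  have hg₀u : g₀ * u = u * g₀ := by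
    set z := g₀ with hz
    have hzQ : z ∈ Q := hCQ (self_mem_cen _)
    set w := z * u * z⁻¹ * (u : G)⁻¹ with hw
    have hzu : z * u * z⁻¹ ∈ N := N.mul_mem (N.mul_mem (Subgroup.le_normalizer hzQ) u.2)
      (N.inv_mem (Subgroup.le_normalizer hzQ))
    have hc := hcomm u u.2 (z * u * z⁻¹) hzu hutr (by rw [tr_conj]; exact hutr)
    have hwQ : w ∈ Q := by
      have := (Subgroup.mem_normalizer_iff.1 u.2 z⁻¹).1 (Q.inv_mem hzQ)
      have h' := Q.mul_mem hzQ this
      rwa [hw, show z * (u : G) * z⁻¹ * (u : G)⁻¹ = z * ((u : G) * z⁻¹ * (u : G)⁻¹) by group]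
    have hw3 : w ^ 3 = 1 := by
      rw [hw, ((show Commute (z * u * z⁻¹) (u : G) from hc.symm).inv_right).mul_pow, conj_pow, inv_pow, hu1]
      group
    have hw1 : w = 1 := orderOf_eq_one_iff.1 (Nat.eq_one_of_dvd_coprimes (by decide : Nat.Coprime 3 8)
      (orderOf_dvd_of_pow_eq_one hw3) (hn₀ ▸ Subgroup.orderOf_dvd_natCard _ hwQ))
    rwa [hw, mul_inv_eq_one, mul_inv_eq_iff_eq_mul] at hw1
  have hone : (u : G) = 1 := Subtype.ext (eq_one_of_commute_trace (two_ne p hp) hg₀ hutr
    (congrArg Subtype.val hg₀u.symm))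
  have : u = 1 := Subtype.ext hone
  rw [this, orderOf_one] at huo
  omega

set_option maxHeartbeats 800000 in
/-- Two opposite unipotent elements: either a matched pair, or a proper subgroup inherits a pair. -/
theorem pair_or_smaller (hp : p ≠ 2) (hneg : -1 ∈ G) {b c : K} (hb : b ≠ 0) (hbG : up b ∈ G)
    (hc : c ≠ 0) (hcG : lo c ∈ G) :
    (∃ t : K, t ≠ 0 ∧ up t ∈ G ∧ lo t⁻¹ ∈ G) ∨
    ∃ X : Subgroup G, X ≠ ⊤ ∧ (⟨-1, hneg⟩ : G) ∈ X ∧
      ∃ u ∈ X, ∃ v ∈ X, tr G u = 2 ∧ tr G v = 2 ∧ u * v ≠ v * u := by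
  classical
  obtain ⟨k, hk, hn, hk1⟩ := index_shape p hb hbG hc hcG
  obtain ⟨hq3, hD2, hDle⟩ := torus_bounds p hp hneg hb hbG
  have hG := card_eq (G := G)
  have hS := card_ss p hp hneg hb hbG
  set n := (nG G).index with hn'
  set q := Nat.card (param G) with hq
  set D := Nat.card (diagHom G).range with hD
  set Gc := Nat.card G with hGc
  by_cases hk' : k = 1
  · exact Or.inl (hk1 hk')
  have hDpos : 0 < D := Nat.card_pos
  clear_value D n q Gc
  obtain ⟨d, rfl⟩ : ∃ d, D = 2 * d := hD2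
  obtain ⟨q', hq'⟩ : ∃ q', q = q' + 1 := ⟨q - 1, by omega⟩
  rw [hq', Nat.add_sub_cancel] at hS hDle
  have hn2 : 2 * q + 1 ≤ n := by
    rw [hn]
    have : 2 ≤ k := by omega
    calc 2 * q + 1 ≤ q * k + 1 := by nlinarith
      _ ≤ _ := le_rfl
  set SS : Set G := {g : G | tr G g ^ 2 ≠ 4} with hSS
  have hsub : ∀ g : G, cls G g ⊆ SS := fun g x hx => hx.1
  rcases Nat.lt_or_ge d 2 with hd | hd
  · -- the torus is trivial
    exfalso
    obtain rfl : d = 1 := by omega
    have hS' : SS.ncard + 2 = 2 * n := by nlinarith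
    obtain ⟨g, hg⟩ : SS.Nonempty := Set.nonempty_of_ncard_ne_zero (by omega)
    obtain ⟨hb4, hbd⟩ := cls_bound p hp hneg hg
    rw [← hGc] at hb4 hbd
    obtain ⟨hcev, hc4, -⟩ := card_cen p hp hneg hg
    have hle : (cls G g).ncard ≤ SS.ncard := Set.ncard_le_ncard (hsub g)
    obtain rfl : q' = 2 := by
      by_contra hne
      have h3 : 3 ≤ q' := by omega
      nlinarith
    have hGn : Gc = 6 * n := by rw [hG, hq']; ring
    by_cases heq : SS ⊆ cls G g
    · have he : (cls G g).ncard = SS.ncard := le_antisymm hle (Set.ncard_le_ncard heq)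
      set c₀ := Nat.card (cen G g) with hc₀
      obtain ⟨j, hj⟩ : ∃ j, c₀ = j + 2 := ⟨c₀ - 2, by omega⟩
      rcases hbd with ⟨h1, -⟩ | h1
      · rw [he, hGn, hj, Nat.add_sub_cancel] at h1
        nlinarith
      · rw [he, hGn, hj, Nat.add_sub_cancel] at h1
        obtain ⟨i, hi⟩ := hcev
        rw [hj] at hi
        rcases Nat.lt_or_ge j 4 with hj4 | hj4
        · interval_cases j <;> omega
        · nlinarith
    · obtain ⟨g', hg', hg'n⟩ := Set.not_subset.1 heq
      have hu := Set.ncard_le_ncard (Set.union_subset (hsub g) (hsub g')) (t := SS)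
      rw [Set.ncard_union_eq (cls_disjoint hg hg' hg'n)] at hu
      have := (cls_bound p hp hneg hg').1
      rw [← hGc] at this
      omega
  -- a non-trivial torus
  obtain ⟨g₀, hg₀, hc₀⟩ := exists_torus p hp (G := G) (by omega)
  obtain ⟨-, hbd₀⟩ := cls_bound p hp hneg hg₀
  rw [← hD] at hc₀
  rw [hc₀, ← hGc] at hbd₀
  obtain ⟨d', hd'⟩ : ∃ d', d = d' + 2 := ⟨d - 2, by omega⟩
  have hD2' : 2 * d - 2 = 2 * (d' + 1) := by omega
  rw [hD2'] at hbd₀
  have hnpos : 0 < n := by omega
  have hqpos : 0 < q := by omega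
  -- the class of the torus
  have hrest : (SS \ cls G g₀).ncard + (cls G g₀).ncard = SS.ncard :=
    Set.ncard_sdiff_add_ncard_of_subset (hsub g₀)
  have hout : ∀ g ∈ SS \ cls G g₀, cls G g ⊆ SS \ cls G g₀ := fun g hg x hx =>
    ⟨hx.1, fun hx0 => Set.disjoint_left.1 (cls_disjoint hg₀ hg.1 hg.2) hx0 hx⟩
  rcases hbd₀ with ⟨h₀, -⟩ | h₀
  · exfalso
    have hcl : (cls G g₀).ncard = 2 * n * q * (d' + 1) := by
      refine Nat.eq_of_mul_eq_mul_right (show 0 < 2 * d by omega) ?_
      rw [h₀, hG]; ring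
    have hrest' : (SS \ cls G g₀).ncard + 2 = 2 * n := by
      rw [hcl, hq'] at hrest
      rw [hG, hq', hd'] at hS
      nlinarith
    obtain ⟨g, hg⟩ : (SS \ cls G g₀).Nonempty := Set.nonempty_of_ncard_ne_zero (by omega)
    have h1 := (cls_bound p hp hneg hg.1).1
    have h2 := Set.ncard_le_ncard (hout g hg)
    rw [← hGc, hG] at h1
    nlinarith [Nat.mul_le_mul hq3 hd]
  have hcl : (cls G g₀).ncard = n * q * (d' + 1) := by
    refine Nat.eq_of_mul_eq_mul_right (show 0 < 2 * (2 * d) by omega) ?_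
    rw [h₀, hG]; ring
  have hrest' : (SS \ cls G g₀).ncard + n * q + 2 = n * q * d' + 2 * (n * q) + 2 * n := by
    rw [hcl, hq'] at hrest
    rw [hG, hq', hd'] at hS
    rw [hq']
    nlinarith
  have hGv : Gc = 2 * (n * q * (d' + 2)) := by rw [hG, hd']; ring
  have hexp : n * q * (d' + 2) = n * q * d' + 2 * (n * q) := by ring
  have hA : 3 * n ≤ n * q := by rw [mul_comm 3 n]; exact Nat.mul_le_mul_left n hq3
  obtain ⟨g₁, hg₁⟩ : (SS \ cls G g₀).Nonempty := Set.nonempty_of_ncard_ne_zero (fun h0 => by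
    rw [h0] at hrest'
    linarith)
  have hsingle : SS \ cls G g₀ ⊆ cls G g₁ := by
    by_contra hne
    obtain ⟨g', hg', hg'n⟩ := Set.not_subset.1 hne
    have hu := Set.ncard_le_ncard (Set.union_subset (hout g₁ hg₁) (hout g' hg'))
    rw [Set.ncard_union_eq (cls_disjoint hg₁.1 hg'.1 hg'n)] at hu
    have h1 := (cls_bound p hp hneg hg₁.1).1
    have h2 := (cls_bound p hp hneg hg'.1).1
    rw [← hGc, hGv, hexp] at h1 h2
    linarith
  have heq : (cls G g₁).ncard = (SS \ cls G g₀).ncard :=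
    le_antisymm (Set.ncard_le_ncard (hout g₁ hg₁)) (Set.ncard_le_ncard hsingle)
  obtain ⟨-, hbd₁⟩ := cls_bound p hp hneg hg₁.1
  obtain ⟨hcev, hc4, -⟩ := card_cen p hp hneg hg₁.1
  rw [← hGc, hGv] at hbd₁
  rcases hbd₁ with ⟨-, h1⟩ | h1
  · exfalso
    rw [heq, hexp] at h1
    linarith
  obtain ⟨e, he⟩ := hcev
  rw [he, show 2 * e - 2 = 2 * (e - 1) by omega, heq] at h1
  obtain ⟨e', he'⟩ : ∃ e', e = e' + 1 := ⟨e - 1, by omega⟩
  rw [he', Nat.add_sub_cancel] at h1
  -- the fundamental equation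
  have heqn : (e' + 1) * (n * q' + 2) = n * q * (d' + 2) + (e' + 1) * n := by
    rw [hq'] at hrest' h1 ⊢
    have h2 := congrArg (fun x => x * (e' + 1)) hrest'
    simp only [add_mul] at h2
    ring_nf at h1 h2 ⊢
    linarith
  obtain ⟨q'', hq''⟩ : ∃ q'', q' = q'' + 1 := ⟨q' - 1, by omega⟩
  have heqn' : (e' + 1) * (n * q'' + 2) = n * q * (d' + 2) := by
    rw [hq''] at heqn
    ring_nf at heqn ⊢
    linarith
  have hdvd : n ∣ 2 * (e' + 1) := by
    have h1' : n ∣ (e' + 1) * (n * q'' + 2) := heqn' ▸ dvd_mul_of_dvd_left (dvd_mul_right n q) _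
    rw [show (e' + 1) * (n * q'' + 2) = n * ((e' + 1) * q'') + 2 * (e' + 1) by ring] at h1'
    exact (Nat.dvd_add_right (dvd_mul_right _ _)).1 h1'
  obtain ⟨j, hj⟩ := hdvd
  have hj2 : j * (n * q'' + 2) = 2 * q * (d' + 2) := by
    refine Nat.eq_of_mul_eq_mul_left hnpos ?_
    calc n * (j * (n * q'' + 2)) = 2 * ((e' + 1) * (n * q'' + 2)) := by rw [← mul_assoc, ← hj]; ring
      _ = _ := by rw [heqn']; ring
  have hj3 : j * (k * q'' + 1) = 2 * (d' + 2) := by
    refine Nat.eq_of_mul_eq_mul_left hqpos ?_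
    calc q * (j * (k * q'' + 1)) = j * (n * q'' + 2) := by rw [hn, hq', hq'']; ring
      _ = _ := by rw [hj2]; ring
  have hk2 : 2 ≤ k := by omega
  have hj1 : j = 1 := by
    rcases Nat.lt_or_ge j 2 with h | h
    · rcases Nat.eq_zero_or_pos j with rfl | h' <;> omega
    · exfalso
      have h5 := Nat.mul_le_mul h (Nat.add_le_add_right (Nat.mul_le_mul_right q'' hk2) 1)
      have h6 : 1 ≤ q'' := by omega
      linarith
  subst hj1
  rw [one_mul] at hj3
  have hk3 : k = 3 ∧ q'' = 1 ∧ d' = 0 := by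
    rcases Nat.lt_or_ge k 3 with h | h
    · obtain rfl : k = 2 := by omega
      omega
    · have hq1 : q'' = 1 := by
        by_contra hne
        have h5 := Nat.mul_le_mul_right q'' h
        have h6 : 2 ≤ q'' := by omega
        linarith
      subst hq1
      omega
  obtain ⟨rfl, rfl, rfl⟩ := hk3
  refine Or.inr ?_
  have hq3' : q = 3 := by omega
  have hn10 : n = 10 := by rw [hn, hq3']
  have hp3 : p = 3 := by
    obtain ⟨i, hi⟩ := IsPGroup.iff_card.1 (isPGroup_uG (G := G) p)
    rw [card_uG, ← hq, hq3'] at hi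
    have hi0 : i ≠ 0 := by rintro rfl; simp at hi
    exact ((Nat.prime_dvd_prime_iff_eq Fact.out Nat.prime_three).1 (hi ▸ dvd_pow_self p hi0))
  refine exception p hp hneg hp3 (by rw [← hGc, hGv, hn10, hq3']) hg₀ hg₁.1 (by rw [hc₀]; omega) ?_
    (by rw [he]; omega) (by rw [hcl, hn10, hq3']) fun x hx => ?_
  · have h8 := card_cls p hp hneg hg₀
    rw [hc₀, hcl, hn10, hq3', ← hGc, hGv, hn10, hq3'] at h8
    norm_num [show d = 2 by omega] at h8
    omega
  · by_cases h : x ∈ cls G g₀
    · exact Or.inl h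
    · exact Or.inr (hsingle ⟨hx, h⟩)

end setup

/-- Conjugation of `SL₂` by an invertible matrix. -/
def conjBy (M : M2ˣ) : SL ≃* SL where
  toFun g := ⟨(M : M2) * g.1 * ((M⁻¹ : M2ˣ) : M2), by rw [Matrix.det_units_conj]; exact g.2⟩
  invFun g := ⟨((M⁻¹ : M2ˣ) : M2) * g.1 * (M : M2), by
    have := Matrix.det_units_conj M⁻¹ g.1
    rw [inv_inv] at this
    rw [this]; exact g.2⟩
  left_inv g := Subtype.ext (by simp [Matrix.mul_assoc])
  right_inv g := Subtype.ext (by simp [Matrix.mul_assoc])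
  map_mul' g h := Subtype.ext (by
    show (M : M2) * (g * h).1 * _ = ((M : M2) * g.1 * _) * ((M : M2) * h.1 * _)
    rw [Matrix.SpecialLinearGroup.coe_mul]
    simp [Matrix.mul_assoc])

theorem coe_conjBy (M : M2ˣ) (g : SL) :
    (conjBy M g).1 = (M : M2) * g.1 * ((M⁻¹ : M2ˣ) : M2) := rfl

theorem trace_conjBy (M : M2ˣ) (g : SL) : (conjBy M g).1.trace = g.1.trace := by
  rw [coe_conjBy, Matrix.trace_units_conj]

theorem conjBy_neg_one (M : M2ˣ) : conjBy M (-1 : SL) = -1 := Subtype.ext (by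
  rw [coe_conjBy, Matrix.SpecialLinearGroup.coe_neg, Matrix.SpecialLinearGroup.coe_one]; simp)

/-- Non-commuting unipotent elements can be made upper and lower unitriangular simultaneously. -/
theorem exists_conj_up_lo {u v : SL} (hu : u.1.trace = 2) (hv : v.1.trace = 2) (huv : u * v ≠ v * u) :
    ∃ (M : M2ˣ) (b c : K), b ≠ 0 ∧ c ≠ 0 ∧ conjBy M u = up b ∧ conjBy M v = lo c := by
  -- a fixed vector of a unipotent element
  have hfix : ∀ w : SL, w.1.trace = 2 → w ≠ 1 → ∃ a : Fin 2 → K, a ≠ 0 ∧ (w.1 - 1) *ᵥ a = 0 := by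
    intro w hw hw1
    by_contra! h
    apply hw1
    apply Subtype.ext
    rw [Matrix.SpecialLinearGroup.coe_one, ← sub_eq_zero]
    refine Matrix.ext fun i j => ?_
    by_contra hne
    refine h ((w.1 - 1) *ᵥ Pi.single j 1) (fun e => hne ?_) ?_
    · have := congrFun e i
      simpa using this
    · rw [Matrix.mulVec_mulVec, sub_one_sq hw, Matrix.zero_mulVec]
  have hu1 : u ≠ 1 := fun e => huv (by rw [e, one_mul, mul_one])
  have hv1 : v ≠ 1 := fun e => huv (by rw [e, one_mul, mul_one])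
  obtain ⟨a, ha, hua⟩ := hfix u hu hu1
  obtain ⟨b, hb, hvb⟩ := hfix v hv hv1
  set P : M2 := !![a 0, b 0; a 1, b 1] with hP
  have hdet : P.det ≠ 0 := by
    intro hd
    rw [hP, Matrix.det_fin_two] at hd
    simp at hd
    -- both fix the same line
    have hvb' : (v.1 - 1) *ᵥ a = 0 := by
      ext i
      have e := congrFun hvb i
      simp [Matrix.mulVec, dotProduct, Fin.sum_univ_two] at e ⊢
      rcases ne_or_eq (b 0) 0 with h0 | h0
      · refine mul_left_cancel₀ h0 ?_
        rw [mul_zero]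
        linear_combination (a 0) * e - (v.1 i 1 - (1 : M2) i 1) * hd
      · have h1 : b 1 ≠ 0 := fun h1 => hb (funext fun i => by fin_cases i <;> assumption)
        refine mul_left_cancel₀ h1 ?_
        rw [mul_zero]
        linear_combination (a 1) * e + (v.1 i 0 - (1 : M2) i 0) * hd
    have hdet0 : ∀ x y z w : K, x * a 0 + y * a 1 = 0 → z * a 0 + w * a 1 = 0 → x * w - y * z = 0 := by
      intro x y z w h1 h2
      rcases ne_or_eq (a 0) 0 with h0 | h0
      · refine mul_left_cancel₀ h0 ?_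
        rw [mul_zero]
        linear_combination w * h1 - y * h2
      · have h1' : a 1 ≠ 0 := fun h1' => ha (funext fun i => by fin_cases i <;> assumption)
        refine mul_left_cancel₀ h1' ?_
        rw [mul_zero]
        linear_combination x * h2 - z * h1
    have tu := hu
    have tv := hv
    rw [Matrix.trace_fin_two] at tu tv
    have e0 := congrFun hua 0
    have e1 := congrFun hua 1
    have f0 := congrFun hvb' 0
    have f1 := congrFun hvb' 1
    simp [Matrix.mulVec, dotProduct, Fin.sum_univ_two] at e0 e1 f0 f1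
    have r1 := hdet0 _ _ _ _ e0 f0
    have r2 := hdet0 _ _ _ _ e1 f1
    have r3 := hdet0 _ _ _ _ e0 f1
    have r4 := hdet0 _ _ _ _ f0 e1
    apply huv
    apply ext_entries <;> simp only [mul_entry]
    · linear_combination r4 - r3 + (u.1 0 0 - 1) * tv - (v.1 0 0 - 1) * tu
    · linear_combination 2 * r1 + (u.1 0 1) * tv - (v.1 0 1) * tu
    · linear_combination -2 * r2 + (u.1 1 0) * tv - (v.1 1 0) * tu
    · linear_combination r3 - r4 - (u.1 0 0 - 1) * tv + (v.1 0 0 - 1) * tu
  obtain ⟨Mu, hMu⟩ : IsUnit P := (Matrix.isUnit_iff_isUnit_det P).2 (isUnit_iff_ne_zero.2 hdet)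
  refine ⟨Mu⁻¹, ?_⟩
  have hPi : ((Mu⁻¹ : M2ˣ) : M2) * P = 1 := by rw [← hMu]; simp
  have hcol : ∀ (w : SL) (x : Fin 2 → K) (j : Fin 2), (w.1 - 1) *ᵥ x = 0 → (fun i => P i j) = x →
      ∀ i, (conjBy Mu⁻¹ w).1 i j = (1 : M2) i j := by
    intro w x j hwx hx i
    have h1 : ((w.1 - 1) * P).col j = 0 := by
      ext k
      rw [← hx] at hwx
      exact congrFun hwx k
    have h2 : (((Mu⁻¹ : M2ˣ) : M2) * ((w.1 - 1) * P)) i j = 0 := by
      rw [Matrix.mul_apply]
      refine Finset.sum_eq_zero fun k _ => ?_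
      rw [show ((w.1 - 1) * P) k j = 0 from congrFun h1 k, mul_zero]
    rw [Matrix.sub_mul, Matrix.mul_sub, Matrix.one_mul, hPi, Matrix.sub_apply, sub_eq_zero] at h2
    rw [coe_conjBy, inv_inv, hMu, Matrix.mul_assoc]
    exact h2
  have hu0 := hcol u a 0 hua (by funext i; fin_cases i <;> simp [hP])
  have hv0 := hcol v b 1 hvb (by funext i; fin_cases i <;> simp [hP])
  obtain ⟨s, hs⟩ := eq_up_iff.2 ⟨by simpa using hu0 1, by rw [trace_conjBy, hu]⟩
  have hv01 : (conjBy Mu⁻¹ v).1 0 1 = 0 := by simpa using hv0 0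
  have hv11 : (conjBy Mu⁻¹ v).1 1 1 = 1 := by simpa using hv0 1
  have hv00 : (conjBy Mu⁻¹ v).1 0 0 = 1 := by
    have := trace_conjBy Mu⁻¹ v
    rw [Matrix.trace_fin_two, hv, hv11] at this
    linear_combination this
  have hl : conjBy Mu⁻¹ v = lo ((conjBy Mu⁻¹ v).1 1 0) := by
    apply ext_entries <;> simp [hv00, hv01, hv11]
  refine ⟨s, _, fun e => hu1 ((conjBy Mu⁻¹).injective (by rw [hs, e, up_zero, map_one])), fun e => ?_, hs, hl⟩
  apply hv1
  apply (conjBy Mu⁻¹).injective
  rw [map_one, hl, e]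
  apply ext_entries <;> simp

variable (p : ℕ) [Fact p.Prime] [CharP K p]

include p in
theorem dickson_of_neg_one (hp : p ≠ 2) (G : Subgroup SL) [Finite G] (hneg : -1 ∈ G)
    (h : ∃ u ∈ G, ∃ v ∈ G, u.1.trace = 2 ∧ v.1.trace = 2 ∧ u * v ≠ v * u) :
    ∃ H : Subgroup SL, H ≤ G ∧ Nonempty (H ≃* Matrix.SpecialLinearGroup (Fin 2) (ZMod p)) := by
  induction hn : Nat.card G using Nat.strong_induction_on generalizing G with
  | _ m ih =>
    obtain ⟨u, hu, v, hv, htu, htv, huv⟩ := h
    obtain ⟨M, b, c, hb, hc, hub, hvc⟩ := exists_conj_up_lo htu htv huv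
    let φ := (conjBy M).toMonoidHom
    set G' := G.map φ with hG'
    have hcard : Nat.card G' = Nat.card G := Subgroup.card_map_of_injective (conjBy M).injective
    have : Finite G' := Finite.of_surjective _ (φ.subgroupMap_surjective G)
    have hneg' : -1 ∈ G' := ⟨-1, hneg, conjBy_neg_one M⟩
    have hb' : up b ∈ G' := ⟨u, hu, hub⟩
    have hc' : lo c ∈ G' := ⟨v, hv, hvc⟩
    suffices ∃ H : Subgroup SL, H ≤ G' ∧ Nonempty (H ≃* Matrix.SpecialLinearGroup (Fin 2) (ZMod p)) by
      obtain ⟨H, hH, ⟨e⟩⟩ := this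
      refine ⟨H.map (conjBy M).symm.toMonoidHom, ?_,
        ⟨(H.equivMapOfInjective _ (conjBy M).symm.injective).symm.trans e⟩⟩
      rintro _ ⟨x, hx, rfl⟩
      obtain ⟨y, hy, rfl⟩ := hH hx
      simpa [φ] using hy
    rcases pair_or_smaller p hp hneg' hb hb' hc hc' with ⟨t, ht, h1, h2⟩ | ⟨X, hX, hXneg, u', hu', v', hv', h1, h2, h3⟩
    · exact exists_SL2p p ht h1 h2
    · have hlt : Nat.card (X.map G'.subtype) < m := by
        rw [Subgroup.card_map_of_injective G'.subtype_injective, ← hn, ← hcard]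
        have hd := X.card_mul_index
        have h0 : X.index ≠ 1 := fun e => hX (Subgroup.index_eq_one.1 e)
        have : 0 < Nat.card X := Nat.card_pos
        have : X.index ≠ 0 := Subgroup.index_ne_zero_of_finite
        calc Nat.card X < Nat.card X * X.index := lt_mul_right Nat.card_pos (by omega)
          _ = _ := hd
      have : Finite (X.map G'.subtype) := Finite.of_surjective _ (G'.subtype.subgroupMap_surjective X)
      obtain ⟨H, hH, he⟩ := ih _ hlt (X.map G'.subtype) ⟨_, hXneg, rfl⟩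
        ⟨(u' : SL), ⟨u', hu', rfl⟩, (v' : SL), ⟨v', hv', rfl⟩, h1, h2,
          fun e => h3 (Subtype.ext e)⟩ rfl
      exact ⟨H, hH.trans (Subgroup.map_subtype_le X), he⟩

include p in
/-- Dickson: a finite subgroup of `SL₂` with non-commuting unipotent elements contains `SL₂(p)`. -/
theorem dickson (hp : p ≠ 2) (G : Subgroup SL) [Finite G]
    (h : ∃ u ∈ G, ∃ v ∈ G, u.1.trace = 2 ∧ v.1.trace = 2 ∧ u * v ≠ v * u) :
    ∃ H : Subgroup SL, H ≤ G ∧ Nonempty (H ≃* Matrix.SpecialLinearGroup (Fin 2) (ZMod p)) := by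
  classical
  let G' : Subgroup SL :=
    { carrier := {g | g ∈ G ∨ -g ∈ G}
      one_mem' := Or.inl G.one_mem
      mul_mem' := by
        rintro g g' (hg | hg) (hg' | hg')
        · exact Or.inl (G.mul_mem hg hg')
        · exact Or.inr (by rw [← mul_neg]; exact G.mul_mem hg hg')
        · exact Or.inr (by rw [← neg_mul]; exact G.mul_mem hg hg')
        · exact Or.inl (by rw [← neg_mul_neg g g']; exact G.mul_mem hg hg')
      inv_mem' := by
        rintro g (hg | hg)
        · exact Or.inl (G.inv_mem hg)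
        · refine Or.inr ?_
          have := G.inv_mem hg
          rwa [inv_eq_of_mul_eq_one_left (show (-g⁻¹) * (-g) = 1 by rw [neg_mul_neg, inv_mul_cancel])] at this }
  have : Finite G' := by
    refine Finite.of_surjective (fun x : G × Bool =>
      (⟨if x.2 then (x.1 : SL) else -(x.1 : SL), by
        split
        · exact Or.inl x.1.2
        · exact Or.inr (by rw [neg_neg]; exact x.1.2)⟩ : G')) ?_
    rintro ⟨g, hg | hg⟩
    · exact ⟨(⟨g, hg⟩, true), rfl⟩
    · exact ⟨(⟨-g, hg⟩, false), Subtype.ext (by simp)⟩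
  obtain ⟨u, hu, v, hv, h1, h2, h3⟩ := h
  obtain ⟨H, hH, ⟨e⟩⟩ := dickson_of_neg_one p hp G' (Or.inr (by rw [neg_neg]; exact G.one_mem))
    ⟨u, Or.inl hu, v, Or.inl hv, h1, h2, h3⟩
  refine ⟨H, ?_, ⟨e⟩⟩
  have key : H = (Subgroup.closure ({e.symm (up 1), e.symm (lo 1)} : Set H)).map H.subtype := by
    have hcl : Subgroup.closure ({e.symm (up 1), e.symm (lo 1)} : Set H) = ⊤ := by
      have := congrArg (Subgroup.map e.symm.toMonoidHom) (closure_pair p)
      rw [MonoidHom.map_closure, Subgroup.map_top_of_surjective _ e.symm.surjective, Set.image_insert_eq,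
        Set.image_singleton] at this
      exact this
    rw [hcl, ← MonoidHom.range_eq_map, Subgroup.range_subtype]
  rw [key, Subgroup.map_le_iff_le_comap, Subgroup.closure_le]
  have hmem : ∀ x : Matrix.SpecialLinearGroup (Fin 2) (ZMod p), x ^ p = 1 → (e.symm x : SL) ∈ G := by
    intro x hx
    have hxp : (e.symm x : SL) ^ p = 1 := by
      rw [← Subgroup.coe_pow, ← map_pow, hx, map_one, Subgroup.coe_one]
    rcases hH (e.symm x).2 with h | h
    · exact h
    · have hodd : Odd p := (Fact.out : p.Prime).odd_of_ne_two hp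
      have hm := G.pow_mem h p
      rw [hodd.neg_pow, hxp] at hm
      have := G.mul_mem hm h
      rwa [neg_mul_neg, one_mul] at this
  rintro x (rfl | rfl)
  · exact hmem _ (by rw [up_pow]; simp [up_zero])
  · exact hmem _ (by rw [lo_pow]; apply ext_entries <;> simp)

end CfsgLib.Dickson
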