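import Cfsg.Agent.Lib.Dickson.Basic
import Mathlib.GroupTheory.SchurZassenhaus
import Mathlib.Data.Set.Card

/-!
Counting in a finite subgroup of `SL₂` containing two opposite unipotent elements: the Sylow
`p`-subgroups number `q + 1`, apart from one configuration of order `120`.
-/

set_option autoImplicit false
set_option maxHeartbeats 400000

namespace CfsgLib.Dickson

open Matrix

variable {K : Type*} [Field K]

local notation "M2" => Matrix (Fin 2) (Fin 2) K
local notation "SL" => Matrix.SpecialLinearGroup (Fin 2) K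

/-- The upper unitriangular subgroup. -/
def upRange : Subgroup SL where
  carrier := {g | ∃ t, g = up t}
  one_mem' := ⟨0, up_zero.symm⟩
  mul_mem' := by rintro _ _ ⟨s, rfl⟩ ⟨t, rfl⟩; exact ⟨s + t, up_mul s t⟩
  inv_mem' := by rintro _ ⟨t, rfl⟩; exact ⟨-t, up_inv t⟩

/-- The upper triangular subgroup. -/
def borel : Subgroup SL where
  carrier := {g | g.1 1 0 = 0}
  one_mem' := by simp
  mul_mem' := by
    intro g h (hg : g.1 1 0 = 0) (hh : h.1 1 0 = 0)
    show (g * h).1 1 0 = 0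
    rw [mul_entry, hg, hh, zero_mul, mul_zero, add_zero]
  inv_mem' := by
    intro g (hg : g.1 1 0 = 0)
    show (g⁻¹).1 1 0 = 0
    rw [(inv_entries g).2.2.1, hg, neg_zero]

variable (G : Subgroup (Matrix.SpecialLinearGroup (Fin 2) K))

/-- The parameters of the upper unipotent elements of `G`. -/
def param : AddSubgroup K where
  carrier := {t | up t ∈ G}
  zero_mem' := by show up (0 : K) ∈ G; rw [up_zero]; exact G.one_mem
  add_mem' := by
    intro s t (hs : up s ∈ G) (ht : up t ∈ G)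
    show up (s + t) ∈ G
    rw [← up_mul]; exact G.mul_mem hs ht
  neg_mem' := by
    intro t (ht : up t ∈ G)
    show up (-t) ∈ G
    rw [← up_inv]; exact G.inv_mem ht

/-- The upper unipotent elements of `G`. -/
def uG : Subgroup G := upRange.subgroupOf G

/-- The upper triangular elements of `G`. -/
def nG : Subgroup G := borel.subgroupOf G

/-- The trace of an element of `G`. -/
def tr (g : G) : K := (g : SL).1.trace

/-- The upper left entry, as a homomorphism on `nG`. -/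
def diagHom : nG G →* Kˣ :=
  MonoidHom.toHomUnits
    { toFun := fun g => ((g : G) : SL).1 0 0
      map_one' := by simp
      map_mul' := fun g h => by
        have hh : ((h : G) : SL).1 1 0 = 0 := h.2
        simp only [Subgroup.coe_mul]
        rw [mul_entry, hh, mul_zero, add_zero] }

theorem coe_diagHom (g : nG G) : (diagHom G g : K) = ((g : G) : SL).1 0 0 := rfl

/-- The centraliser of an element of `G`. -/
def cen (g : G) : Subgroup G := Subgroup.centralizer {g}

/-- Semisimple elements conjugate into the centraliser of `g`. -/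
def cls (g : G) : Set G := {x | tr G x ^ 2 ≠ 4 ∧ ∃ h : G, h⁻¹ * x * h ∈ cen G g}

variable {G}

theorem mem_uG {g : G} : g ∈ uG G ↔ (g : SL).1 1 0 = 0 ∧ tr G g = 2 := eq_up_iff

theorem mem_cen {g x : G} : x ∈ cen G g ↔ x * g = g * x := Subgroup.mem_centralizer_singleton_iff

theorem tr_conj (h g : G) : tr G (h * g * h⁻¹) = tr G g := trace_conj (h : SL) (g : SL)

theorem tr_conj' (h g : G) : tr G (h⁻¹ * g * h) = tr G g := by
  simpa using tr_conj h⁻¹ g

theorem uG_le_nG : uG G ≤ nG G := fun _ hx => (mem_uG.1 hx).1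

theorem ker_diagHom : (diagHom G).ker = (uG G).subgroupOf (nG G) := by
  ext g
  have h10 : ((g : G) : SL).1 1 0 = 0 := g.2
  have hd := det_eq ((g : G) : SL)
  rw [h10, mul_zero, sub_zero] at hd
  rw [MonoidHom.mem_ker, Units.ext_iff, coe_diagHom, Units.val_one, Subgroup.mem_subgroupOf, mem_uG]
  constructor
  · intro h
    rw [h, one_mul] at hd
    refine ⟨h10, ?_⟩
    show ((g : G) : SL).1.trace = 2
    rw [Matrix.trace_fin_two, h, hd, one_add_one_eq_two]
  · intro h
    obtain ⟨t, ht⟩ := eq_up_iff.2 h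
    rw [ht]; simp

theorem conj_mem_uG {m u : G} (hm : m ∈ nG G) (hu : u ∈ uG G) : m * u * m⁻¹ ∈ uG G := by
  rw [mem_uG, tr_conj]
  refine ⟨?_, (mem_uG.1 hu).2⟩
  exact (nG G).mul_mem ((nG G).mul_mem hm (uG_le_nG hu)) ((nG G).inv_mem hm)

theorem mem_nG_of_conj {h u : G} (hu : u ∈ uG G) (hu1 : u ≠ 1) (hc : h * u * h⁻¹ ∈ uG G) :
    h ∈ nG G := by
  obtain ⟨t, ht⟩ := hu
  have ht0 : t ≠ 0 := fun e => hu1 (Subtype.ext (by rw [show (u : SL) = _ from ht, e, up_zero]; rfl))
  have h1 := (mem_uG.1 hc).1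
  simp only [Subgroup.coe_mul, Subgroup.coe_inv] at h1
  rw [show (u : SL) = up t from ht, (conj_up (h : SL) t).2.1, neg_eq_zero, mul_eq_zero] at h1
  exact pow_eq_zero_iff two_ne_zero |>.1 (h1.resolve_left ht0)

/-- `uG` is in bijection with `param`. -/
noncomputable def uEquiv : param G ≃ uG G := by
  refine Equiv.ofBijective (fun t => ⟨⟨up t.1, t.2⟩, t.1, rfl⟩) ⟨fun s t h => ?_, ?_⟩
  · have := congrArg (fun x : uG G => ((x : G) : SL).1 0 1) h
    exact Subtype.ext (by simpa using this)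
  · rintro ⟨⟨x, hx⟩, t, ht⟩
    exact ⟨⟨t, show up t ∈ G from ht ▸ hx⟩, Subtype.ext (Subtype.ext ht.symm)⟩

theorem card_uG : Nat.card (uG G) = Nat.card (param G) := (Nat.card_congr uEquiv).symm

theorem card_eq [Finite G] :
    Nat.card G = (nG G).index * (Nat.card (param G) * Nat.card (diagHom G).range) := by
  have h1 := (nG G).card_mul_index
  have h2 := (diagHom G).ker.card_mul_index
  rw [Subgroup.index_ker, ker_diagHom, Nat.card_congr (Subgroup.subgroupOfEquivOfLe uG_le_nG).toEquiv,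
    card_uG] at h2
  rw [← h1, ← h2]; ring

section finite

variable [Finite G] (p : ℕ) [Fact p.Prime] [CharP K p]

theorem isPGroup_uG : IsPGroup p (uG G) := fun u => ⟨1, Subtype.ext (Subtype.ext (by
  rw [pow_one]
  simpa using pow_prime_of_trace p (g := ((u : G) : SL)) (mem_uG.1 u.2).2))⟩

theorem two_ne (hp : p ≠ 2) : (2 : K) ≠ 0 := Ring.two_ne_zero (by rwa [ringChar.eq K p])

theorem four_ne (hp : p ≠ 2) : (4 : K) ≠ 0 := by
  rw [show (4 : K) = 2 * 2 by norm_num]
  exact mul_ne_zero (two_ne p hp) (two_ne p hp)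

include p in
/-- Every element of trace `2` is conjugate into `uG`. -/
theorem exists_conj_uG {b : K} (hb : b ≠ 0) (hbG : up b ∈ G) {g : G} (hg : tr G g = 2) :
    ∃ h : G, h⁻¹ * g * h ∈ uG G := by
  have hmax : ∀ Q : Subgroup G, IsPGroup p Q → uG G ≤ Q → Q ≤ uG G := by
    intro Q hQ hle q hq
    haveI : Nontrivial Q := by
      refine ⟨⟨⟨⟨up b, hbG⟩, hle ⟨b, rfl⟩⟩, 1, fun e => hb ?_⟩⟩
      have := congrArg (fun x : Q => ((x : G) : SL).1 0 1) e
      simpa using this
    haveI := hQ.center_nontrivial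
    obtain ⟨⟨⟨z, hzQ⟩, hzc⟩, hz1⟩ := exists_ne (1 : Subgroup.center Q)
    have hz1' : z ≠ 1 := fun e => hz1 (Subtype.ext (Subtype.ext e))
    -- commuting with a non-trivial upper unipotent element forces upper triangular shape
    have key : ∀ (x : G) (t : K), t ≠ 0 → (x : SL) * up t = up t * (x : SL) → (x : SL).1 1 0 = 0 := by
      intro x t ht hc
      have h1 := congrArg (fun y : SL => y.1 0 0) hc
      simp [mul_entry] at h1
      exact h1.resolve_left ht
    have trQ : ∀ x ∈ Q, tr G x = 2 := fun x hx => by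
      obtain ⟨k, hk⟩ := hQ ⟨x, hx⟩
      exact trace_of_pow p (k := k)
        (by simpa using congrArg (fun y : Q => ((y : G) : SL)) hk)
    have hzU : z ∈ uG G := by
      refine mem_uG.2 ⟨key z b hb ?_, trQ z hzQ⟩
      have := congrArg (fun y : Q => ((y : G) : SL))
        (Subgroup.mem_center_iff.1 hzc ⟨⟨up b, hbG⟩, hle ⟨b, rfl⟩⟩)
      simpa using this.symm
    obtain ⟨t, ht⟩ := hzU
    have ht0 : t ≠ 0 := fun e => hz1' (Subtype.ext (by rw [show (z : SL) = _ from ht, e, up_zero]; rfl))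
    refine mem_uG.2 ⟨key q t ht0 ?_, trQ q hq⟩
    have := congrArg (fun y : Q => ((y : G) : SL)) (Subgroup.mem_center_iff.1 hzc ⟨q, hq⟩)
    simp only [Subgroup.coe_mul] at this
    rwa [show (z : SL) = up t from ht] at this
  let P : Sylow p G := ⟨uG G, isPGroup_uG p, fun hQ hle => le_antisymm (hmax _ hQ hle) hle⟩
  have hgp : IsPGroup p (Subgroup.zpowers g) := by
    intro x
    refine ⟨1, Subtype.ext ?_⟩
    obtain ⟨i, hi⟩ := x.2
    have hgp : g ^ p = 1 := Subtype.ext (by simpa using pow_prime_of_trace p (g := (g : SL)) hg)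
    show (x : G) ^ p ^ 1 = 1
    rw [pow_one, ← hi, ← zpow_natCast, ← _root_.zpow_mul, mul_comm, _root_.zpow_mul, zpow_natCast, hgp, _root_.one_zpow]
  obtain ⟨R, hR⟩ := hgp.exists_le_sylow
  obtain ⟨h, hh⟩ := MulAction.exists_smul_eq G R P
  refine ⟨h⁻¹, ?_⟩
  have : MulAut.conj h g ∈ ((h • R : Sylow p G) : Subgroup G) :=
    Subgroup.mem_map_of_mem _ (hR (Subgroup.mem_zpowers g))
  rw [hh] at this
  simpa [P] using this

include p in
theorem card_trace_two {b : K} (hb : b ≠ 0) (hbG : up b ∈ G) :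
    {g : G | tr G g = 2 ∧ g ≠ 1}.ncard = (nG G).index * (Nat.card (param G) - 1) := by
  classical
  have h1 : {u : G | u ∈ uG G ∧ u ≠ 1}.ncard = Nat.card (param G) - 1 := by
    rw [← card_uG (G := G), show {u : G | u ∈ uG G ∧ u ≠ 1} = ((uG G : Subgroup G) : Set G) \ {1} from rfl,
      Set.ncard_sdiff_singleton_of_mem (uG G).one_mem, ← Nat.card_coe_set_eq]
    rfl
  rw [← h1, ← Nat.card_coe_set_eq, ← Nat.card_coe_set_eq, Subgroup.index, ← Nat.card_prod]
  refine (Nat.card_eq_of_bijective (fun x : (G ⧸ nG G) × {u : G | u ∈ uG G ∧ u ≠ 1} =>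
    (⟨x.1.out * x.2.1 * x.1.out⁻¹, by
      refine ⟨by rw [tr_conj]; exact (mem_uG.1 x.2.2.1).2, fun e => x.2.2.2 ?_⟩
      rwa [mul_inv_eq_one, mul_eq_left] at e⟩ : {g : G | tr G g = 2 ∧ g ≠ 1})) ⟨?_, ?_⟩).symm
  · rintro ⟨c, u, hu⟩ ⟨c', u', hu'⟩ e
    have e' : c.out * u * c.out⁻¹ = c'.out * u' * c'.out⁻¹ := congrArg Subtype.val e
    have hcc : c'.out⁻¹ * c.out ∈ nG G := by
      refine mem_nG_of_conj hu.1 hu.2 ?_
      rw [show c'.out⁻¹ * c.out * u * (c'.out⁻¹ * c.out)⁻¹ = c'.out⁻¹ * (c.out * u * c.out⁻¹) * c'.out by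
        group, e']
      simpa [mul_assoc] using hu'.1
    have hc : c' = c := by
      rw [← QuotientGroup.out_eq' c', ← QuotientGroup.out_eq' c]
      exact QuotientGroup.eq.2 hcc
    subst hc
    simpa using e'
  · rintro ⟨g, hg, hg1⟩
    obtain ⟨h, hh⟩ := exists_conj_uG p hb hbG hg
    obtain ⟨m, hm⟩ : ∃ m ∈ nG G, (QuotientGroup.mk h : G ⧸ nG G).out = h * m := by
      obtain ⟨m, hm⟩ := QuotientGroup.mk_out_eq_mul (nG G) h
      exact ⟨m, m.2, hm⟩
    refine ⟨⟨(h : G ⧸ nG G), m⁻¹ * (h⁻¹ * g * h) * m, ?_, ?_⟩, Subtype.ext ?_⟩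
    · simpa using conj_mem_uG ((nG G).inv_mem hm.1) hh
    · intro e
      apply hg1
      calc g = h * m * (m⁻¹ * (h⁻¹ * g * h) * m) * (h * m)⁻¹ := by group
        _ = 1 := by rw [e]; group
    · show _ * (m⁻¹ * (h⁻¹ * g * h) * m) * _ = g
      rw [hm.2]; group

include p in
theorem card_ss (hp : p ≠ 2) (hneg : -1 ∈ G) {b : K} (hb : b ≠ 0) (hbG : up b ∈ G) :
    {g : G | tr G g ^ 2 ≠ 4}.ncard + 2 + 2 * ((nG G).index * (Nat.card (param G) - 1)) = Nat.card G := by
  classical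
  set A : Set G := {g : G | tr G g = 2} with hA
  have hA1 : A.ncard = (nG G).index * (Nat.card (param G) - 1) + 1 := by
    have h1 : (1 : G) ∈ A := by simp [hA, tr, Matrix.trace_fin_two, one_add_one_eq_two]
    rw [← card_trace_two p hb hbG, ← Set.ncard_sdiff_singleton_add_one h1]
    rfl
  let m : G := ⟨-1, hneg⟩
  have hm : ∀ g : G, tr G (m * g) = -tr G g := fun g => by
    show ((-1 : SL) * (g : SL)).1.trace = _
    rw [neg_one_mul, neg_one_trace]; rfl
  set B : Set G := {g : G | tr G g = -2} with hB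
  have hB1 : B.ncard = A.ncard := by
    refine Set.ncard_congr (fun g _ => m * g) (fun g (hg : tr G g = -2) => ?_)
      (fun g g' _ _ e => mul_left_cancel e) (fun g (hg : tr G g = 2) => ⟨m * g, ?_, ?_⟩)
    · show tr G (m * g) = 2
      rw [hm, hg, neg_neg]
    · show tr G (m * g) = -2
      rw [hm, hg]
    · rw [← mul_assoc, show m * m = 1 from Subtype.ext (by simp [m]), one_mul]
  have hdisj : Disjoint A B := Set.disjoint_left.2 fun g (h1 : tr G g = 2) (h2 : tr G g = -2) =>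
    four_ne p hp (by rw [h1] at h2; linear_combination h2)
  have hcompl : {g : G | tr G g ^ 2 ≠ 4} = (A ∪ B)ᶜ := by
    ext g
    simp only [Set.mem_compl_iff, Set.mem_union, Set.mem_setOf_eq, hA, hB]
    constructor
    · rintro h (h' | h') <;> exact h (by rw [h']; norm_num)
    · intro h h'
      exact h (trace_sq_eq_four h')
  have := Set.ncard_add_ncard_compl (A ∪ B)
  rw [Set.ncard_union_eq hdisj, hB1, hA1, ← hcompl] at this
  omega

end finite

section torus

theorem cen_comm {g x y : G} (hg : tr G g ^ 2 ≠ 4) (hx : x ∈ cen G g) (hy : y ∈ cen G g) :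
    x * y = y * x :=
  Subtype.ext (commute_of_commute hg (congrArg Subtype.val (mem_cen.1 hx))
    (congrArg Subtype.val (mem_cen.1 hy)))

theorem self_mem_cen (g : G) : g ∈ cen G g := mem_cen.2 rfl

theorem cen_eq {g x : G} (hg : tr G g ^ 2 ≠ 4) (hx : x ∈ cen G g) (hxs : tr G x ^ 2 ≠ 4) :
    cen G x = cen G g := by
  ext y
  constructor
  · intro hy
    exact mem_cen.2 (cen_comm hxs hy (mem_cen.2 (mem_cen.1 hx).symm))
  · intro hy
    exact mem_cen.2 (cen_comm hg hy hx)

theorem cen_conj (h g y : G) : y ∈ cen G (h⁻¹ * g * h) ↔ h * y * h⁻¹ ∈ cen G g := by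
  rw [mem_cen, mem_cen]
  constructor
  · intro e
    calc h * y * h⁻¹ * g = h * (y * (h⁻¹ * g * h)) * h⁻¹ := by group
      _ = h * (h⁻¹ * g * h * y) * h⁻¹ := by rw [e]
      _ = _ := by group
  · intro e
    calc y * (h⁻¹ * g * h) = h⁻¹ * (h * y * h⁻¹ * g) * h := by group
      _ = h⁻¹ * (g * (h * y * h⁻¹)) * h := by rw [e]
      _ = _ := by group

theorem mem_cls_self {g : G} (hg : tr G g ^ 2 ≠ 4) : g ∈ cls G g :=
  ⟨hg, 1, by simpa using self_mem_cen g⟩

theorem cls_eq {g x : G} (hg : tr G g ^ 2 ≠ 4) (hx : x ∈ cls G g) : cls G x = cls G g := by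
  obtain ⟨hxs, h, hh⟩ := hx
  have hC : cen G (h⁻¹ * x * h) = cen G g := cen_eq hg hh (by rwa [tr_conj'])
  ext y
  constructor
  · rintro ⟨hys, k, hk⟩
    refine ⟨hys, k * h, ?_⟩
    rw [← hC, cen_conj]
    rw [show h * ((k * h)⁻¹ * y * (k * h)) * h⁻¹ = k⁻¹ * y * k by group]
    exact hk
  · rintro ⟨hys, k, hk⟩
    rw [← hC, cen_conj] at hk
    refine ⟨hys, k * h⁻¹, ?_⟩
    rwa [show (k * h⁻¹)⁻¹ * y * (k * h⁻¹) = h * (k⁻¹ * y * k) * h⁻¹ by group]

theorem cls_disjoint {g g' : G} (hg : tr G g ^ 2 ≠ 4) (hg' : tr G g' ^ 2 ≠ 4) (h : g' ∉ cls G g) :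
    Disjoint (cls G g) (cls G g') :=
  Set.disjoint_left.2 fun x hx hx' => h (by
    rw [← cls_eq hg hx, cls_eq hg' hx']; exact mem_cls_self hg')

variable [Finite G] (p : ℕ) [Fact p.Prime] [CharP K p]

theorem trivial_of_mem_cen (hp : p ≠ 2) (hneg : -1 ∈ G) {g x : G} (hg : tr G g ^ 2 ≠ 4)
    (hx : x ∈ cen G g) (hxs : tr G x ^ 2 = 4) : x = 1 ∨ x = ⟨-1, hneg⟩ := by
  have hc : (x : SL) * (g : SL) = (g : SL) * (x : SL) := congrArg Subtype.val (mem_cen.1 hx)
  rcases trace_sq_eq_four hxs with h | h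
  · exact Or.inl (Subtype.ext (eq_one_of_commute_trace (two_ne p hp) hg h hc))
  · right
    have h1 : (-(x : SL)).1.trace = 2 := by rw [neg_one_trace]; exact neg_eq_iff_eq_neg.2 h
    have := eq_one_of_commute_trace (two_ne p hp) hg h1 (by rw [neg_mul, mul_neg, hc])
    exact Subtype.ext (neg_eq_iff_eq_neg.1 this)

theorem neg_one_ne (hp : p ≠ 2) : (-1 : SL) ≠ 1 := fun e => by
  have := congrArg (fun y : SL => y.1.trace) e
  simp only [neg_one_trace (1 : SL)] at this
  simp only [Matrix.SpecialLinearGroup.coe_one, Matrix.trace_fin_two, Matrix.one_apply_eq] at this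
  exact four_ne p hp (by linear_combination -this)

theorem tr_one : tr G (1 : G) = 2 := by simp [tr, Matrix.trace_fin_two, one_add_one_eq_two]

theorem card_cen (hp : p ≠ 2) (hneg : -1 ∈ G) {g : G} (hg : tr G g ^ 2 ≠ 4) :
    2 ∣ Nat.card (cen G g) ∧ 4 ≤ Nat.card (cen G g) ∧
      {x : G | x ∈ cen G g ∧ tr G x ^ 2 ≠ 4}.ncard = Nat.card (cen G g) - 2 := by
  set m : G := ⟨-1, hneg⟩ with hmdef
  have hm1 : m ≠ 1 := fun e => neg_one_ne p hp (congrArg Subtype.val e)
  have hmg : m ∈ cen G g := mem_cen.2 (Subtype.ext (by simp [m]))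
  have hmtr : tr G m ^ 2 = 4 := by
    show (-1 : SL).1.trace ^ 2 = 4
    rw [neg_one_trace, Matrix.SpecialLinearGroup.coe_one, Matrix.trace_fin_two, Matrix.one_apply_eq,
      Matrix.one_apply_eq]
    norm_num
  have hsub : {x : G | x ∈ cen G g ∧ tr G x ^ 2 ≠ 4} = ((cen G g : Subgroup G) : Set G) \ {1, m} := by
    ext x
    simp only [Set.mem_setOf_eq, Set.mem_diff, SetLike.mem_coe, Set.mem_insert_iff, Set.mem_singleton_iff]
    refine ⟨fun ⟨h1, h2⟩ => ⟨h1, ?_⟩, fun ⟨h1, h2⟩ => ⟨h1, fun h => h2 (trivial_of_mem_cen p hp hneg hg h1 h)⟩⟩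
    rintro (rfl | rfl)
    · exact h2 (by rw [tr_one]; norm_num)
    · exact h2 hmtr
  have hpair : ({1, m} : Set G) ⊆ ((cen G g : Subgroup G) : Set G) := by
    rintro x (rfl | rfl)
    · exact one_mem _
    · exact hmg
  have hcount : {x : G | x ∈ cen G g ∧ tr G x ^ 2 ≠ 4}.ncard = Nat.card (cen G g) - 2 := by
    rw [hsub, Set.ncard_sdiff hpair, Set.ncard_pair hm1.symm, ← Nat.card_coe_set_eq]
    rfl
  have hne : 0 < {x : G | x ∈ cen G g ∧ tr G x ^ 2 ≠ 4}.ncard :=
    (Set.ncard_pos).2 ⟨g, self_mem_cen g, hg⟩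
  have h2 : 2 ∣ Nat.card (cen G g) := by
    have hord : orderOf m = 2 := orderOf_eq_prime (Subtype.ext (by simp [m, pow_two])) hm1
    have := Subgroup.orderOf_dvd_natCard _ hmg
    rwa [hord] at this
  exact ⟨h2, by omega, hcount⟩

theorem card_normalizer (hp : p ≠ 2) {g : G} (hg : tr G g ^ 2 ≠ 4) :
    Nat.card (Subgroup.normalizer (cen G g : Set G)) = Nat.card (cen G g) ∨
      Nat.card (Subgroup.normalizer (cen G g : Set G)) = 2 * Nat.card (cen G g) := by
  classical
  set N := Subgroup.normalizer (cen G g : Set G)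
  have hle : cen G g ≤ N := Subgroup.le_normalizer
  have hconj : ∀ m ∈ N, m * g * m⁻¹ = g ∨ m * g * m⁻¹ = g⁻¹ := by
    intro m hm
    have hmem : m * g * m⁻¹ ∈ cen G g := (Subgroup.mem_normalizer_iff.1 hm g).1 (self_mem_cen g)
    rcases eq_or_eq_inv (two_ne p hp) hg (tr_conj m g) (congrArg Subtype.val (mem_cen.1 hmem)) with h | h
    · exact Or.inl (Subtype.ext h)
    · exact Or.inr (Subtype.ext h)
  let f : N ⧸ (cen G g).subgroupOf N → Bool :=
    fun c => decide ((c.out : G) * g * (c.out : G)⁻¹ = g)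
  have hf : Function.Injective f := by
    intro c c' e
    rw [← QuotientGroup.out_eq' c, ← QuotientGroup.out_eq' c']
    rw [QuotientGroup.eq, Subgroup.mem_subgroupOf, mem_cen]
    have heq : (c.out : G) * g * (c.out : G)⁻¹ = (c'.out : G) * g * (c'.out : G)⁻¹ := by
      simp only [f, decide_eq_decide] at e
      by_cases h : (c.out : G) * g * (c.out : G)⁻¹ = g
      · rw [h, e.1 h]
      · rw [(hconj _ c.out.2).resolve_left h, (hconj _ c'.out.2).resolve_left (fun h' => h (e.2 h'))]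
    simp only [Subgroup.coe_mul, Subgroup.coe_inv]
    calc (c.out : G)⁻¹ * (c'.out : G) * g
        = (c.out : G)⁻¹ * ((c'.out : G) * g * (c'.out : G)⁻¹) * (c'.out : G) := by group
      _ = (c.out : G)⁻¹ * ((c.out : G) * g * (c.out : G)⁻¹) * (c'.out : G) := by rw [heq]
      _ = _ := by group
  have h1 := Nat.card_le_card_of_injective f hf
  rw [Nat.card_eq_fintype_card (α := Bool), Fintype.card_bool] at h1
  have h2 := ((cen G g).subgroupOf N).card_mul_index
  rw [Nat.card_congr (Subgroup.subgroupOfEquivOfLe hle).toEquiv] at h2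
  have h3 : ((cen G g).subgroupOf N).index ≠ 0 := Subgroup.index_ne_zero_of_finite
  have h4 : ((cen G g).subgroupOf N).index = Nat.card (N ⧸ (cen G g).subgroupOf N) := rfl
  have h5 : ((cen G g).subgroupOf N).index = 1 ∨ ((cen G g).subgroupOf N).index = 2 := by omega
  rcases h5 with h | h <;> rw [h] at h2
  · exact Or.inl (by omega)
  · exact Or.inr (by omega)

theorem card_cls (hp : p ≠ 2) (hneg : -1 ∈ G) {g : G} (hg : tr G g ^ 2 ≠ 4) :
    (cls G g).ncard * Nat.card (Subgroup.normalizer (cen G g : Set G)) =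
      Nat.card G * (Nat.card (cen G g) - 2) := by
  classical
  rw [← (card_cen p hp hneg hg).2.2, ← Nat.card_coe_set_eq, ← Nat.card_coe_set_eq, ← Nat.card_prod,
    ← Nat.card_prod]
  set N := Subgroup.normalizer (cen G g : Set G) with hN
  choose hx hhx using fun x : cls G g => x.2.2
  have hback : ∀ (x : cls G g) (m : N), (m : G)⁻¹ * ((hx x)⁻¹ * (x : G) * hx x) * m ∈ cen G g := by
    intro x m
    have := (Subgroup.mem_normalizer_iff.1 (N.inv_mem m.2) _).1 (hhx x)
    simpa using this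
  refine Nat.card_eq_of_bijective (fun xm : cls G g × N =>
    ((hx xm.1 * xm.2 : G), (⟨(xm.2 : G)⁻¹ * ((hx xm.1)⁻¹ * (xm.1 : G) * hx xm.1) * xm.2,
      hback xm.1 xm.2, by rw [tr_conj', tr_conj']; exact xm.1.2.1⟩ :
        {x : G | x ∈ cen G g ∧ tr G x ^ 2 ≠ 4}))) ⟨?_, ?_⟩
  · rintro ⟨x, m⟩ ⟨x', m'⟩ e
    obtain ⟨e1, e2⟩ := Prod.mk.inj e
    have e2' : (m : G)⁻¹ * ((hx x)⁻¹ * (x : G) * hx x) * m =
        (m' : G)⁻¹ * ((hx x')⁻¹ * (x' : G) * hx x') * m' := congrArg Subtype.val e2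
    have hxx : x = x' := Subtype.ext (by
      calc (x : G) = (hx x * m) * ((m : G)⁻¹ * ((hx x)⁻¹ * (x : G) * hx x) * m) * (hx x * m)⁻¹ := by group
        _ = (hx x' * m') * ((m' : G)⁻¹ * ((hx x')⁻¹ * (x' : G) * hx x') * m') * (hx x' * m')⁻¹ := by
            rw [e2', show hx x * (m : G) = hx x' * m' from e1]
        _ = (x' : G) := by group)
    subst hxx
    exact Prod.ext rfl (Subtype.ext (mul_left_cancel e1))
  · rintro ⟨h, c, hc, hcs⟩
    have hxmem : h * c * h⁻¹ ∈ cls G g :=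
      ⟨by rwa [tr_conj], h, by simpa [mul_assoc] using hc⟩
    let x : cls G g := ⟨h * c * h⁻¹, hxmem⟩
    set c' := (hx x)⁻¹ * (x : G) * hx x with hc'
    have hC : cen G c' = cen G g := cen_eq hg (hhx x) (by rw [tr_conj']; exact x.2.1)
    have hC2 : cen G c = cen G g := cen_eq hg hc hcs
    have hmN : (hx x)⁻¹ * h ∈ N := by
      rw [Subgroup.mem_normalizer_iff]
      intro y
      have hc2 : c = ((hx x)⁻¹ * h)⁻¹ * c' * ((hx x)⁻¹ * h) := by
        rw [hc']; simp only [x]; group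
      calc y ∈ cen G g ↔ y ∈ cen G (((hx x)⁻¹ * h)⁻¹ * c' * ((hx x)⁻¹ * h)) := by rw [← hc2, hC2]
        _ ↔ _ := by rw [cen_conj, hC]
    refine ⟨(x, ⟨_, hmN⟩), ?_⟩
    simp only [Prod.mk.injEq, Subtype.ext_iff, mul_inv_cancel_left, true_and]
    simp only [x]
    group

theorem cls_bound (hp : p ≠ 2) (hneg : -1 ∈ G) {g : G} (hg : tr G g ^ 2 ≠ 4) :
    Nat.card G ≤ 4 * (cls G g).ncard ∧
    ((cls G g).ncard * Nat.card (cen G g) = Nat.card G * (Nat.card (cen G g) - 2) ∧
        Nat.card G ≤ 2 * (cls G g).ncard ∨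
      (cls G g).ncard * (2 * Nat.card (cen G g)) = Nat.card G * (Nat.card (cen G g) - 2)) := by
  obtain ⟨-, h4, -⟩ := card_cen p hp hneg hg
  have hc := card_cls p hp hneg hg
  set c := Nat.card (cen G g) with hcdef
  have key : Nat.card G * c ≤ Nat.card G * (2 * (c - 2)) := Nat.mul_le_mul_left _ (by omega)
  rcases card_normalizer p hp hg with h | h <;> rw [h] at hc
  · have h1 : Nat.card G ≤ 2 * (cls G g).ncard := by
      refine Nat.le_of_mul_le_mul_right ?_ (show 0 < c by omega)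
      calc Nat.card G * c ≤ Nat.card G * (2 * (c - 2)) := key
        _ = 2 * (cls G g).ncard * c := by rw [mul_assoc 2, hc]; ring
    exact ⟨by omega, Or.inl ⟨hc, h1⟩⟩
  · refine ⟨?_, Or.inr hc⟩
    refine Nat.le_of_mul_le_mul_right ?_ (show 0 < c by omega)
    calc Nat.card G * c ≤ Nat.card G * (2 * (c - 2)) := key
      _ = 4 * (cls G g).ncard * c := by rw [show Nat.card G * (2 * (c - 2)) = 2 * (Nat.card G * (c - 2)) by ring, ← hc]; ring

end torus

end CfsgLib.Dickson
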