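import Cfsg.Agent.Lib.Dickson.QuadraticPair
import Cfsg.Agent.Lib.Subnormal
import Cfsg.Agent.Lib.Components
import Cfsg.Prelude.Def_PLocal
import Mathlib.Algebra.Module.ZMod

/-!
Quadratic action of a group on an elementary abelian `p`-group, `p` odd: an element outside the
`p`-core of the action makes `SL₂(p)` involved, and the Sylow `2`-subgroups are then non-abelian.
-/

set_option autoImplicit false
set_option maxHeartbeats 400000

namespace CfsgLib.Dickson

open scoped commutatorElement Pointwise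

variable {G : Type*} [Group G] [Finite G] {p : ℕ} [Fact p.Prime]

/-- The matrices of the action of `H` on an elementary abelian normalised subgroup. -/
theorem exists_matrixRep (V H : Subgroup G) (hV : Cfsg.IsElementaryAbelian p V)
    (hHV : H ≤ Subgroup.normalizer (V : Set G)) :
    ∃ (n : ℕ) (ρ : H →* Matrix (Fin n) (Fin n) (ZMod p)) (L : (Fin n → ZMod p) → G),
      Function.Injective L ∧ (∀ w, L w ∈ V) ∧ (∀ u w, L (u + w) = L u * L w) ∧
      (∀ (h : H) (w : Fin n → ZMod p), L ((ρ h).mulVec w) = (h : G) * L w * (h : G)⁻¹) ∧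
      (∀ h : H, ρ h = 1 ↔ (h : G) ∈ Subgroup.centralizer (V : Set G)) ∧
      (∀ h : H, ⁅⁅V, Subgroup.zpowers (h : G)⁆, Subgroup.zpowers (h : G)⁆ = ⊥ →
        (ρ h - 1) * (ρ h - 1) = 0) := by
  letI : CommGroup V := { (inferInstance : Group V) with
    mul_comm := fun a b => (hV.1.is_comm.comm a b) }
  have hsmul : ∀ v : Additive V, p • v = 0 := fun v => Additive.toMul.injective
      (Subtype.ext (by rw [toMul_nsmul, Subgroup.coe_pow]; exact hV.2 _ v.toMul.2))
  haveI : Module (ZMod p) (Additive V) := AddCommGroup.zmodModule hsmul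
  have : Finite (Additive V) := Finite.of_equiv V Additive.ofMul
  have hfin : Module.Finite (ZMod p) (Additive V) := Module.Finite.of_finite
  have hfree : Module.Free (ZMod p) (Additive V) := Module.Free.of_divisionRing (ZMod p) (Additive V)
  let b : Module.Basis (Fin (Module.finrank (ZMod p) (Additive V))) (ZMod p) (Additive V) :=
    @Module.finBasis (ZMod p) (Additive V) _ _ _ hfree _ hfin
  let n := Module.finrank (ZMod p) (Additive V)
  have hmem : ∀ h ∈ H, ∀ v ∈ V, h * v * h⁻¹ ∈ V := fun h hh v hv =>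
    (Subgroup.mem_normalizer_iff.1 (hHV hh) v).1 hv
  let act : H → Additive V →+ Additive V := fun h =>
    { toFun := fun v => Additive.ofMul ⟨(h : G) * v.toMul * (h : G)⁻¹, hmem h h.2 _ v.toMul.2⟩
      map_zero' := Additive.toMul.injective (Subtype.ext (by simp))
      map_add' := fun u v => Additive.toMul.injective (Subtype.ext (by simp [mul_assoc])) }
  have hact : ∀ (h : H) (v : Additive V), (((act h v).toMul : V) : G) = h * (v.toMul : G) * (h : G)⁻¹ :=
    fun _ _ => rfl
  have h1act : ∀ v : Additive V, act 1 v = v := fun v =>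
    Additive.toMul.injective (Subtype.ext (by rw [hact]; simp))
  have hmact : ∀ (g h : H) (v : Additive V), act (g * h) v = act g (act h v) := fun g h v =>
    Additive.toMul.injective (Subtype.ext (by rw [hact, hact, hact]; simp [mul_assoc]))
  let A : H →* Module.End (ZMod p) (Additive V) :=
    { toFun := fun h => (act h).toZModLinearMap p
      map_one' := by
        refine LinearMap.ext fun v => ?_
        exact h1act v
      map_mul' := fun g h => by
        refine LinearMap.ext fun v => ?_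
        exact hmact g h v }
  let ρ : H →* Matrix (Fin n) (Fin n) (ZMod p) :=
    { toFun := fun h => LinearMap.toMatrixAlgEquiv b (A h)
      map_one' := (congrArg (LinearMap.toMatrixAlgEquiv b) A.map_one).trans (map_one _)
      map_mul' := fun g h => (congrArg (LinearMap.toMatrixAlgEquiv b) (A.map_mul g h)).trans (map_mul _ _ _) }
  let L : (Fin n → ZMod p) → G := fun w => (((b.equivFun.symm w).toMul : V) : G)
  have hL : ∀ (h : H) (w : Fin n → ZMod p),
      L ((ρ h).mulVec w) = (h : G) * L w * (h : G)⁻¹ := by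
    intro h w
    have h1 : b.equivFun.symm ((ρ h).mulVec w) = A h (b.equivFun.symm w) := by
      rw [LinearEquiv.symm_apply_eq]
      have h2 := LinearMap.toMatrix_mulVec_repr b b (A h) (b.equivFun.symm w)
      have h3 : b.repr (b.equivFun.symm w) = w := b.equivFun.apply_symm_apply w
      rw [h3] at h2
      exact h2
    show (((b.equivFun.symm ((ρ h).mulVec w)).toMul : V) : G) = _
    rw [h1]
    exact hact h _
  have hA : ∀ h : H, ρ h = 1 ↔ A h = 1 := fun h => by
    constructor
    · intro e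
      exact (LinearMap.toMatrixAlgEquiv b).injective (e.trans (map_one _).symm)
    · intro e
      show (LinearMap.toMatrixAlgEquiv b) (A h) = 1
      rw [e, map_one]
  refine ⟨n, ρ, L, ?_, fun w => ((b.equivFun.symm w).toMul).2, fun u w => ?_, hL, fun h => ?_, fun h hq => ?_⟩
  · exact Subtype.val_injective.comp (Additive.toMul.injective.comp b.equivFun.symm.injective)
  · show (((b.equivFun.symm (u + w)).toMul : V) : G) = _; rw [map_add, toMul_add, Subgroup.coe_mul]
  · rw [hA]
    constructor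
    · intro e v hv
      have h1 := congrArg (fun x : Additive V => ((x.toMul : V) : G))
        (LinearMap.congr_fun e (Additive.ofMul ⟨v, hv⟩))
      have h2 : (h : G) * v * (h : G)⁻¹ = v := h1
      exact (mul_inv_eq_iff_eq_mul.1 h2).symm
    · intro e
      refine LinearMap.ext fun v => Additive.toMul.injective (Subtype.ext ?_)
      show (h : G) * (v.toMul : G) * (h : G)⁻¹ = v.toMul
      rw [← e _ v.toMul.2, mul_inv_cancel_right]
  · have h0 : (A h - 1) * (A h - 1) = 0 := by
      refine LinearMap.ext fun v => ?_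
      have key : ∀ u : Additive V, (A h - 1) u = act h u - u := fun _ => rfl
      rw [Module.End.mul_apply, key, key, LinearMap.zero_apply, sub_eq_zero]
      refine Additive.toMul.injective (Subtype.ext ?_)
      rw [hact, toMul_sub, div_eq_mul_inv, Subgroup.coe_mul, Subgroup.coe_inv, hact]
      set x : G := (v.toMul : G)
      set w : G := (h : G) * x * (h : G)⁻¹ * x⁻¹ with hw
      have hwmem : w ∈ ⁅V, Subgroup.zpowers (h : G)⁆ := by
        rw [Subgroup.commutator_comm]
        exact Subgroup.commutator_mem_commutator (Subgroup.mem_zpowers _) v.toMul.2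
      have := Subgroup.mem_centralizer_iff.1 (Subgroup.commutator_eq_bot_iff_le_centralizer.1 hq hwmem)
        (h : G) (Subgroup.mem_zpowers _)
      rw [this, mul_inv_cancel_right]
    show ((LinearMap.toMatrixAlgEquiv b) (A h) - 1) * ((LinearMap.toMatrixAlgEquiv b) (A h) - 1) = 0
    rw [← map_one (LinearMap.toMatrixAlgEquiv b), ← map_sub, ← map_mul, h0, map_zero]

theorem pow_prime_pow_eq_one {n : Type*} [Fintype n] [DecidableEq n] [Nonempty n]
    {M : Matrix n n (ZMod p)} (h : IsNilpotent (M - 1)) : ∃ k : ℕ, M ^ p ^ k = 1 := by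
  obtain ⟨m, hm⟩ := h
  refine ⟨m, ?_⟩
  have hle : m ≤ p ^ m := (Nat.lt_pow_self (Fact.out : p.Prime).one_lt).le
  have h1 : (M - 1) ^ p ^ m = 0 := by
    obtain ⟨j, hj⟩ := Nat.exists_eq_add_of_le hle
    rw [hj, pow_add, hm, zero_mul]
  rw [sub_pow_char_pow_of_commute p _ (Commute.one_right M), one_pow] at h1
  exact sub_eq_zero.1 h1

/-- Two quadratic elements whose group is not a `p`-group on `V`. -/
theorem exists_natural_group (hp : p ≠ 2) (V : Subgroup G) (hV : Cfsg.IsElementaryAbelian p V) {a b : G}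
    (ha : a ∈ Subgroup.normalizer (V : Set G)) (hb : b ∈ Subgroup.normalizer (V : Set G))
    (hqa : ⁅⁅V, Subgroup.zpowers a⁆, Subgroup.zpowers a⁆ = ⊥)
    (hqb : ⁅⁅V, Subgroup.zpowers b⁆, Subgroup.zpowers b⁆ = ⊥)
    (hn : ¬ ∀ g ∈ Subgroup.closure ({a, b} : Set G),
      ∃ k : ℕ, g ^ p ^ k ∈ Subgroup.centralizer (V : Set G)) :
    ∃ (K : Subgroup G) (ψ : K →* Matrix.SpecialLinearGroup (Fin 2) (ZMod p))
      (ι : (Fin 2 → ZMod p) → G),
      K ≤ Subgroup.closure ({a, b} : Set G) ∧ Function.Surjective ψ ∧ Function.Injective ι ∧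
      (∀ w, ι w ∈ V) ∧ (∀ u w, ι (u + w) = ι u * ι w) ∧
      ∀ (k : K) (w : Fin 2 → ZMod p), ι ((ψ k).1.mulVec w) = (k : G) * ι w * (k : G)⁻¹ := by
  classical
  set N := Subgroup.normalizer (V : Set G) with hN
  obtain ⟨n, ρ, L, hLi, hLV, hLadd, hLc, hker, hquad⟩ := exists_matrixRep V N hV le_rfl
  have hclo : Subgroup.closure ({a, b} : Set G) =
      (Subgroup.closure ({⟨a, ha⟩, ⟨b, hb⟩} : Set N)).map N.subtype := by
    rw [MonoidHom.map_closure, Set.image_insert_eq, Set.image_singleton]; rfl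
  have hnil : ¬ ∀ g ∈ Subgroup.closure ({⟨a, ha⟩, ⟨b, hb⟩} : Set N), IsNilpotent (ρ g - 1) := by
    intro h
    apply hn
    intro g hg
    rw [hclo] at hg
    obtain ⟨g, hg', rfl⟩ := hg
    rcases isEmpty_or_nonempty (Fin n) with hn0 | hn0
    · refine ⟨0, ?_⟩
      rw [pow_zero, pow_one]
      exact (hker g).1 (Subsingleton.elim _ _)
    obtain ⟨k, hk⟩ := pow_prime_pow_eq_one (h g hg')
    refine ⟨k, ?_⟩
    have := (hker (g ^ p ^ k)).1 (by rw [map_pow, hk])
    simpa using this
  obtain ⟨H, ψ, hH, hψ, Q, hQi, hQ⟩ :=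
    exists_natural hp ρ (hquad ⟨a, ha⟩ hqa) (hquad ⟨b, hb⟩ hqb) hnil
  let e := H.equivMapOfInjective N.subtype N.subtype_injective
  refine ⟨H.map N.subtype, ψ.comp e.symm.toMonoidHom, fun w => L (Q.mulVec w),
    hclo ▸ Subgroup.map_mono hH, hψ.comp e.symm.surjective, hLi.comp hQi, fun w => hLV _,
    fun u w => by show L _ = L _ * L _; rw [Matrix.mulVec_add, hLadd], fun k w => ?_⟩
  obtain ⟨k, rfl⟩ := e.surjective k
  show L (Q.mulVec ((ψ (e.symm (e k))).1.mulVec w)) = _
  rw [MulEquiv.symm_apply_apply, Matrix.mulVec_mulVec, ← hQ, ← Matrix.mulVec_mulVec, hLc]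
  rfl

omit [Finite G] in
/-- A surjection from a subgroup gives a section. -/
theorem section_of_surjective {A : Type*} [Group A] {K : Subgroup G} (ψ : K →* A)
    (hψ : Function.Surjective ψ) :
    ∃ L : Subgroup G, L ≤ K ∧ ∃ _ : (L.subgroupOf K).Normal, Nonempty ((K ⧸ L.subgroupOf K) ≃* A) := by
  have hL : (ψ.ker.map K.subtype).subgroupOf K = ψ.ker :=
    Subgroup.comap_map_eq_self_of_injective K.subtype_injective ψ.ker
  refine ⟨ψ.ker.map K.subtype, Subgroup.map_subtype_le _, ?_⟩
  rw [hL]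
  exact ⟨inferInstance, ⟨QuotientGroup.quotientKerEquivOfSurjective ψ hψ⟩⟩

/-- A quadratic element outside the `p`-core of the action pairs with a conjugate to a group which
is not a `p`-group on `V`. -/
theorem exists_conj_pair (hp : p ≠ 2) (V H : Subgroup G) (hV : Cfsg.IsElementaryAbelian p V)
    (hHV : H ≤ Subgroup.normalizer (V : Set G)) {a : G} (haH : a ∈ H)
    (hq : ⁅⁅V, Subgroup.zpowers a⁆, Subgroup.zpowers a⁆ = ⊥)
    (hna : ∀ D : Subgroup H, D.Normal →
      (∀ g ∈ D, ∃ k : ℕ, ((g : G)) ^ p ^ k ∈ Subgroup.centralizer (V : Set G)) → (⟨a, haH⟩ : H) ∉ D) :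
    ∃ c ∈ H, ⁅⁅V, Subgroup.zpowers (c * a * c⁻¹)⁆, Subgroup.zpowers (c * a * c⁻¹)⁆ = ⊥ ∧
      ¬ ∀ g ∈ Subgroup.closure ({a, c * a * c⁻¹} : Set G),
        ∃ k : ℕ, g ^ p ^ k ∈ Subgroup.centralizer (V : Set G) := by
  classical
  by_contra! hall
  have hquad : ∀ c ∈ H, ⁅⁅V, Subgroup.zpowers (c * a * c⁻¹)⁆, Subgroup.zpowers (c * a * c⁻¹)⁆ = ⊥ := by
    intro c hc
    have hcN := hHV hc
    have hV' : V.map (MulAut.conj c).toMonoidHom = V := by
      ext v
      rw [Subgroup.mem_map]
      constructor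
      · rintro ⟨w, hw, rfl⟩
        exact (Subgroup.mem_normalizer_iff.1 hcN w).1 hw
      · intro hv
        refine ⟨c⁻¹ * v * c, ?_, by simp [mul_assoc]⟩
        have := (Subgroup.mem_normalizer_iff.1 (inv_mem hcN) v).1 hv
        simpa using this
    have := congrArg (Subgroup.map (MulAut.conj c).toMonoidHom) hq
    rw [Subgroup.map_bot, Subgroup.map_commutator, Subgroup.map_commutator, hV', MonoidHom.map_zpowers] at this
    exact this
  set C := (Subgroup.centralizer (V : Set G)).subgroupOf H with hC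
  have hCn : C.Normal := by
    have hnorm : ((Subgroup.centralizer (V : Set G)).subgroupOf (Subgroup.normalizer (V : Set G))).Normal :=
      ⟨fun x hx g v hv => by
        have hx' := hx (((g : G))⁻¹ * v * g) (by
          have := (Subgroup.mem_normalizer_iff.1 (inv_mem g.2) v).1 hv
          simpa using this)
        show v * ((g * x * g⁻¹ : Subgroup.normalizer (V : Set G)) : G) =
          ((g * x * g⁻¹ : Subgroup.normalizer (V : Set G)) : G) * v
        simp only [Subgroup.subtype_apply] at hx'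
        simp only [Subgroup.coe_mul, Subgroup.coe_inv]
        calc v * ((g : G) * x * (g : G)⁻¹) = (g : G) * (((g : G)⁻¹ * v * g) * x) * (g : G)⁻¹ := by group
          _ = (g : G) * ((x : G) * ((g : G)⁻¹ * v * g)) * (g : G)⁻¹ := by rw [hx']
          _ = _ := by group⟩
    refine ⟨fun x hx g => ?_⟩
    exact hnorm.conj_mem ⟨x, hHV x.2⟩ hx ⟨g, hHV g.2⟩
  let π := QuotientGroup.mk' C
  let ā := π ⟨a, haH⟩
  have hgroup : ∀ c : H ⧸ C, IsPGroup p
      (Subgroup.zpowers ā ⊔ MulAut.conj c • Subgroup.zpowers ā : Subgroup (H ⧸ C)) := by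
    intro c
    obtain ⟨c, rfl⟩ := QuotientGroup.mk'_surjective C c
    have hle : (Subgroup.zpowers ā ⊔ MulAut.conj (π c) • Subgroup.zpowers ā : Subgroup (H ⧸ C)) ≤
        (Subgroup.closure ({⟨a, haH⟩, c * ⟨a, haH⟩ * c⁻¹} : Set H)).map π := by
      refine sup_le (Subgroup.zpowers_le.2 (Subgroup.mem_map_of_mem _ (Subgroup.subset_closure (by simp)))) ?_
      rw [Subgroup.pointwise_smul_def]
      refine (MonoidHom.map_zpowers _ _).le.trans (Subgroup.zpowers_le.2 ?_)
      exact ⟨c * ⟨a, haH⟩ * c⁻¹, Subgroup.subset_closure (by simp), by simp [ā, π]⟩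
    refine IsPGroup.to_le ?_ hle
    rintro ⟨_, g, hg, rfl⟩
    have hg' : (g : G) ∈ Subgroup.closure ({a, (c : G) * a * (c : G)⁻¹} : Set G) := by
      have := Subgroup.mem_map_of_mem H.subtype hg
      rwa [MonoidHom.map_closure, Set.image_insert_eq, Set.image_singleton] at this
    obtain ⟨k, hk⟩ := hall c c.2 (hquad c c.2) g hg'
    refine ⟨k, Subtype.ext ?_⟩
    show π g ^ p ^ k = 1
    rw [← map_pow, QuotientGroup.mk'_apply, QuotientGroup.eq_one_iff]
    simpa [hC, Subgroup.mem_subgroupOf] using hk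
  obtain ⟨hsn, -⟩ := CfsgLib.le_fitting_of_sup_conj_nilpotent (Subgroup.zpowers ā)
    fun c => (hgroup c).isNilpotent
  have hle := CfsgLib.isSubnormal_isPGroup_le_pCore (p := p) hsn ((hgroup 1).to_le le_sup_left)
  refine hna ((Cfsg.pCore p (H ⧸ C)).comap π) (Subgroup.Normal.comap inferInstance π) (fun g hg => ?_)
    (hle (Subgroup.mem_zpowers ā))
  obtain ⟨k, hk⟩ := CfsgLib.isPGroup_pCore (G := H ⧸ C) p ⟨π g, hg⟩
  refine ⟨k, ?_⟩
  have h1 : π g ^ p ^ k = 1 := congrArg Subtype.val hk
  rw [← map_pow, QuotientGroup.mk'_apply, QuotientGroup.eq_one_iff] at h1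
  simpa [hC, Subgroup.mem_subgroupOf] using h1

/-- A group with a section `SL₂(p)` has a non-abelian `2`-subgroup. -/
theorem not_comm_sylow_two (hp : p ≠ 2) {K : Subgroup G}
    (ψ : K →* Matrix.SpecialLinearGroup (Fin 2) (ZMod p)) (hψ : Function.Surjective ψ)
    (H : Subgroup G) (hKH : K ≤ H) (T : Sylow 2 H) : ¬ IsMulCommutative T := by
  classical
  intro hT
  -- all `2`-subgroups of `H` are abelian
  have hab : ∀ S : Sylow 2 K, ∀ u ∈ (S : Subgroup K), ∀ v ∈ (S : Subgroup K), u * v = v * u := by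
    intro S u hu v hv
    let j : K →* H := Subgroup.inclusion hKH
    obtain ⟨T', hT'⟩ := (S.2.map j).exists_le_sylow
    obtain ⟨g, hg⟩ := MulAction.exists_smul_eq H T' T
    have hm : ∀ w ∈ (S : Subgroup K), MulAut.conj g (j w) ∈ (T : Subgroup H) := fun w hw => by
      rw [← hg]
      exact Subgroup.mem_map_of_mem _ (hT' (Subgroup.mem_map_of_mem _ hw))
    have := congrArg Subtype.val (hT.is_comm.comm ⟨_, hm u hu⟩ ⟨_, hm v hv⟩)
    simp only [Subgroup.coe_mul, ← map_mul] at this
    exact Subgroup.inclusion_injective hKH ((MulAut.conj g).injective this)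
  obtain ⟨s, t, hst⟩ := ZMod.sq_add_sq p (-1 : ZMod p)
  let w : Matrix.SpecialLinearGroup (Fin 2) (ZMod p) := ⟨!![0, -1; 1, 0], by simp [Matrix.det_fin_two]⟩
  let u : Matrix.SpecialLinearGroup (Fin 2) (ZMod p) := ⟨!![s, t; t, -s], by
    simp [Matrix.det_fin_two]; linear_combination -hst⟩
  have hwv : w.1 = !![0, -1; 1, 0] := rfl
  have huv : u.1 = !![s, t; t, -s] := rfl
  have hne : w * u ≠ u * w := by
    intro h
    have h00 := congrArg (fun z : Matrix.SpecialLinearGroup (Fin 2) (ZMod p) => z.1 0 0) h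
    have h01 := congrArg (fun z : Matrix.SpecialLinearGroup (Fin 2) (ZMod p) => z.1 0 1) h
    simp [mul_entry, hwv, huv] at h00 h01
    have h2 := two_ne (K := ZMod p) p hp
    have ht : t = 0 := mul_left_cancel₀ h2 (by linear_combination -h00)
    have hs : s = 0 := mul_left_cancel₀ h2 (by linear_combination h01)
    rw [ht, hs] at hst
    simp at hst
  have hwu : IsPGroup 2 (Subgroup.zpowers w ⊔ Subgroup.zpowers u : Subgroup _) := by
    have h4 : ∀ z : Matrix.SpecialLinearGroup (Fin 2) (ZMod p), z * z = -1 →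
        IsPGroup 2 (Subgroup.zpowers z) := by
      intro z hz
      rintro ⟨_, i, rfl⟩
      refine ⟨2, Subtype.ext ?_⟩
      show (z ^ i) ^ 2 ^ 2 = 1
      rw [← zpow_natCast, ← zpow_mul, mul_comm, zpow_mul, zpow_natCast,
        show 2 ^ 2 = 2 * 2 by norm_num, pow_mul, pow_two z, hz, neg_one_sq, one_zpow]
    have hw : w * w = -1 := by apply ext_entries <;> simp [mul_entry, hwv]
    have hu : u * u = -1 := by
      apply ext_entries <;> simp [mul_entry, huv] <;>
        first | linear_combination hst | ring1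
    refine IsPGroup.to_sup_of_normal_left' (h4 w hw) (h4 u hu) (Subgroup.zpowers_le.2 ?_)
    have hconj : u * w * u⁻¹ = w⁻¹ := by
      rw [mul_inv_eq_iff_eq_mul]
      apply ext_entries <;> simp [mul_entry, hwv, huv, Matrix.SpecialLinearGroup.coe_inv, Matrix.adjugate_fin_two]
    rw [Subgroup.mem_normalizer_iff]
    intro z
    constructor
    · rintro ⟨i, rfl⟩
      exact ⟨-i, by show w ^ (-i) = u * w ^ i * u⁻¹; rw [← conj_zpow, hconj, inv_zpow']⟩
    · rintro ⟨i, hi⟩
      refine ⟨-i, ?_⟩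
      show w ^ (-i) = z
      have : u * w ^ (-i) * u⁻¹ = u * z * u⁻¹ := by
        rw [← hi, ← conj_zpow, hconj, zpow_neg, inv_zpow, inv_inv]
      exact mul_left_cancel (mul_right_cancel this)
  obtain ⟨S⟩ : Nonempty (Sylow 2 K) := inferInstance
  obtain ⟨R, hR⟩ := hwu.exists_le_sylow
  obtain ⟨g, hg⟩ := MulAction.exists_smul_eq (Matrix.SpecialLinearGroup (Fin 2) (ZMod p)) (S.mapSurjective hψ) R
  obtain ⟨g, rfl⟩ := hψ g
  have hpre : ∀ z ∈ (R : Subgroup (Matrix.SpecialLinearGroup (Fin 2) (ZMod p))),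
      ∃ k ∈ (S : Subgroup K), z = ψ (g * k * g⁻¹) := by
    intro z hz
    rw [← hg] at hz
    obtain ⟨y, hy, rfl⟩ := hz
    rw [Sylow.coe_mapSurjective] at hy
    obtain ⟨k, hk, rfl⟩ := hy
    exact ⟨k, hk, by simp⟩
  obtain ⟨k, hk, hkw⟩ := hpre w (hR (le_sup_left (α := Subgroup _) (Subgroup.mem_zpowers w)))
  obtain ⟨l, hl, hlu⟩ := hpre u (hR (le_sup_right (α := Subgroup _) (Subgroup.mem_zpowers u)))
  apply hne
  rw [hkw, hlu, ← map_mul, ← map_mul, show g * k * g⁻¹ * (g * l * g⁻¹) = g * (k * l) * g⁻¹ by group,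
    hab S k hk l hl]
  congr 1; group

end CfsgLib.Dickson
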