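import Cfsg.Agent.Lib.Dickson.Main
import Mathlib.LinearAlgebra.Matrix.Charpoly.Eigs
import Mathlib.FieldTheory.IsAlgClosed.AlgebraicClosure
import Mathlib.LinearAlgebra.Dual.Lemmas

/-!
Two elements acting quadratically on a vector space over `ZMod p` and not generating a `p`-group
involve `SL₂(p)`, with a natural module inside the given one.
-/

set_option autoImplicit false
set_option maxHeartbeats 400000

namespace CfsgLib.Dickson

open Matrix

section alt

variable {R : Type*} [Ring R]

/-- The alternating word of length `i` beginning with `E` (second component: with `F`). -/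
def alt (E F : R) : ℕ → R × R
  | 0 => (1, 1)
  | i + 1 => (E * (alt E F i).2, F * (alt E F i).1)

/-- Elements killed by all alternating words of length `i`. -/
def AltKer (E F : R) (i : ℕ) (M : R) : Prop := (alt E F i).1 * M = 0 ∧ (alt E F i).2 * M = 0

theorem alt_mul (E F : R) (hE : E * E = 0) (hF : F * F = 0) (i : ℕ) :
    ((alt E F i).1 * E = 0 ∨ (alt E F i).1 * E = (alt E F (i + 1)).1) ∧
    ((alt E F i).2 * E = 0 ∨ (alt E F i).2 * E = (alt E F (i + 1)).2 ∨
      (alt E F i).2 * E = (alt E F (i + 1)).1) ∧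
    ((alt E F i).1 * F = 0 ∨ (alt E F i).1 * F = (alt E F (i + 1)).1 ∨
      (alt E F i).1 * F = (alt E F (i + 1)).2) ∧
    ((alt E F i).2 * F = 0 ∨ (alt E F i).2 * F = (alt E F (i + 1)).2) := by
  induction i with
  | zero => simp [alt]
  | succ i ih =>
    obtain ⟨h1, h2, h3, h4⟩ := ih
    refine ⟨?_, ?_, ?_, ?_⟩
    · show E * (alt E F i).2 * E = 0 ∨ E * (alt E F i).2 * E = E * (alt E F (i + 1)).2
      rw [mul_assoc]
      rcases h2 with h | h | h <;> rw [h]
      · left; rw [mul_zero]
      · exact Or.inr rfl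
      · left
        show E * (E * (alt E F i).2) = 0
        rw [← mul_assoc, hE, zero_mul]
    · show F * (alt E F i).1 * E = 0 ∨ F * (alt E F i).1 * E = F * (alt E F (i + 1)).1 ∨ _
      rw [mul_assoc]
      rcases h1 with h | h <;> rw [h]
      · left; rw [mul_zero]
      · exact Or.inr (Or.inl rfl)
    · show E * (alt E F i).2 * F = 0 ∨ E * (alt E F i).2 * F = E * (alt E F (i + 1)).2 ∨ _
      rw [mul_assoc]
      rcases h4 with h | h <;> rw [h]
      · left; rw [mul_zero]
      · exact Or.inr (Or.inl rfl)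
    · show F * (alt E F i).1 * F = 0 ∨ F * (alt E F i).1 * F = F * (alt E F (i + 1)).1
      rw [mul_assoc]
      rcases h3 with h | h | h <;> rw [h]
      · left; rw [mul_zero]
      · exact Or.inr rfl
      · left
        show F * (F * (alt E F i).1) = 0
        rw [← mul_assoc, hF, zero_mul]

theorem altKer_succ (E F : R) {i : ℕ} {M : R} (h : AltKer E F i M) : AltKer E F (i + 1) M := by
  refine ⟨?_, ?_⟩
  · show E * (alt E F i).2 * M = 0
    rw [mul_assoc, h.2, mul_zero]
  · show F * (alt E F i).1 * M = 0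
    rw [mul_assoc, h.1, mul_zero]

theorem altKer_mul_left (E F : R) (hE : E * E = 0) (hF : F * F = 0) {i : ℕ} {M : R}
    (h : AltKer E F (i + 1) M) : AltKer E F i (E * M) ∧ AltKer E F i (F * M) := by
  obtain ⟨h1, h2, h3, h4⟩ := alt_mul E F hE hF i
  refine ⟨⟨?_, ?_⟩, ?_, ?_⟩ <;> rw [← mul_assoc]
  · rcases h1 with e | e <;> rw [e]
    · rw [zero_mul]
    · exact h.1
  · rcases h2 with e | e | e <;> rw [e]
    · rw [zero_mul]
    · exact h.2
    · exact h.1
  · rcases h3 with e | e | e <;> rw [e]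
    · rw [zero_mul]
    · exact h.1
    · exact h.2
  · rcases h4 with e | e <;> rw [e]
    · rw [zero_mul]
    · exact h.2

theorem altKer_add (E F : R) {i : ℕ} {M N : R} (hM : AltKer E F i M) (hN : AltKer E F i N) :
    AltKer E F i (M + N) :=
  ⟨by rw [mul_add, hM.1, hN.1, add_zero], by rw [mul_add, hM.2, hN.2, add_zero]⟩

theorem alt_even (E F : R) (m : ℕ) : (alt E F (2 * m)).1 = (E * F) ^ m := by
  induction m with
  | zero => simp [alt]
  | succ m ih =>
    rw [Nat.mul_succ]
    show E * (F * (alt E F (2 * m)).1) = _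
    rw [ih, pow_succ', mul_assoc]

/-- If `E * F` is nilpotent, products of `1 + E`, `1 + F` are unipotent. -/
theorem isNilpotent_sub_one_of_closure {G : Type*} [Group G] [Finite G] (ρ : G →* R) {x y : G}
    (hx : (ρ x - 1) * (ρ x - 1) = 0) (hy : (ρ y - 1) * (ρ y - 1) = 0)
    (hn : IsNilpotent ((ρ x - 1) * (ρ y - 1))) {g : G} (hg : g ∈ Subgroup.closure ({x, y} : Set G)) :
    IsNilpotent (ρ g - 1) := by
  set E := ρ x - 1 with hEd
  set F := ρ y - 1 with hFd
  obtain ⟨m, hm⟩ := hn
  have hzero : (alt E F (2 * m + 1)).2 = 0 ∧ (alt E F (2 * m + 2)).1 = 0 := by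
    have h1 : (alt E F (2 * m + 1)).2 = 0 := by
      show F * (alt E F (2 * m)).1 = 0
      rw [alt_even, hm, mul_zero]
    refine ⟨h1, ?_⟩
    show E * (alt E F (2 * m + 1)).2 = 0
    rw [h1, mul_zero]
  have htop : AltKer E F (2 * m + 2) 1 := by
    refine ⟨by rw [hzero.2, zero_mul], ?_⟩
    show F * (alt E F (2 * m + 1)).1 * 1 = 0
    have : (alt E F (2 * m + 1)).1 = E * (alt E F (2 * m)).2 := rfl
    have h2 : (alt E F (2 * (m + 1))).1 = (E * F) ^ (m + 1) := alt_even E F (m + 1)
    rw [mul_one]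
    -- the word `F E F ... E` of length `2 m + 2` equals `(F E)^(m+1)`
    have hFE : ∀ j, (alt E F (2 * j)).2 = (F * E) ^ j := by
      intro j
      induction j with
      | zero => simp [alt]
      | succ j ih =>
        rw [Nat.mul_succ]
        show F * (E * (alt E F (2 * j)).2) = _
        rw [ih, pow_succ', mul_assoc]
    rw [this, hFE, ← mul_assoc, ← pow_succ']
    have hpow : ∀ j, (F * E) ^ (j + 1) = F * (E * F) ^ j * E := by
      intro j
      induction j with
      | zero => simp
      | succ j ih => rw [pow_succ, ih, pow_succ]; simp only [mul_assoc]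
    rw [hpow, hm, mul_zero, zero_mul]
  have key : ∀ i M, AltKer E F (i + 1) M → AltKer E F i ((ρ g - 1) * M) := by
    have hmem : g ∈ Submonoid.closure ({x, y} : Set G) := by
      have h := Subgroup.closure_toSubmonoid_of_finite (s := ({x, y} : Set G))
      rw [← h]; exact hg
    clear hg
    induction hmem using Submonoid.closure_induction with
    | mem z hz =>
      intro i M hM
      rcases hz with rfl | rfl
      · exact (altKer_mul_left E F hx hy hM).1
      · exact (altKer_mul_left E F hx hy hM).2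
    | one =>
      intro i M _
      rw [map_one, sub_self, zero_mul]
      exact ⟨mul_zero _, mul_zero _⟩
    | mul a b _ _ ha hb =>
      intro i M hM
      have h1 := hb i M hM
      have h2 : AltKer E F (i + 1) (ρ b * M) := by
        have := altKer_add E F (altKer_succ E F h1) hM
        rwa [sub_mul, one_mul, sub_add_cancel] at this
      have := altKer_add E F (ha i _ h2) h1
      rwa [show (ρ a - 1) * (ρ b * M) + (ρ b - 1) * M = (ρ (a * b) - 1) * M by
        rw [map_mul]; simp only [sub_mul, one_mul, mul_assoc]; abel] at this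
  refine ⟨2 * m + 2, ?_⟩
  have hk : ∀ j, j ≤ 2 * m + 2 → AltKer E F (2 * m + 2 - j) ((ρ g - 1) ^ j) := by
    intro j
    induction j with
    | zero => intro _; simpa using htop
    | succ j ih =>
      intro hj
      rw [pow_succ']
      refine key _ _ ?_
      rw [show 2 * m + 2 - (j + 1) + 1 = 2 * m + 2 - j by omega]
      exact ih (by omega)
  have := (hk (2 * m + 2) le_rfl).1
  rwa [Nat.sub_self, show (alt E F 0).1 = 1 from rfl, one_mul] at this

end alt

section eigen

variable {K : Type*} [Field K] [IsAlgClosed K] {n : Type*} [Fintype n] [DecidableEq n]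

theorem exists_eigen_ne_zero {M : Matrix n n K} (hM : ¬ IsNilpotent M) :
    ∃ (c : K) (v : n → K), c ≠ 0 ∧ v ≠ 0 ∧ M *ᵥ v = c • v := by
  by_contra! h
  apply hM
  have hsplit : M.charpoly.Splits := IsAlgClosed.splits M.charpoly
  have hroots : ∀ c ∈ M.charpoly.roots, c = 0 := by
    intro c hc
    by_contra hc0
    have hdet : (Matrix.scalar n c - M).det = 0 := by
      rw [← Matrix.eval_charpoly]
      exact (Polynomial.mem_roots M.charpoly_monic.ne_zero).1 hc
    obtain ⟨v, hv, hv'⟩ := Matrix.exists_mulVec_eq_zero_iff.2 hdet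
    refine h c v hc0 hv ?_
    rw [Matrix.sub_mulVec, sub_eq_zero] at hv'
    rw [← hv']
    ext i
    simp [Matrix.mulVec_diagonal]
  have hp : M.charpoly = Polynomial.X ^ Fintype.card n := by
    have h1 := hsplit.eq_prod_roots_of_monic M.charpoly_monic
    rw [Multiset.map_congr rfl (g := fun _ => (Polynomial.X : Polynomial K)) (fun c hc => by simp [hroots c hc]),
      Multiset.map_const', Multiset.prod_replicate] at h1
    rw [h1, ← hsplit.natDegree_eq_card_roots, Matrix.charpoly_natDegree_eq_dim]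
  refine ⟨Fintype.card n, ?_⟩
  have := Matrix.aeval_self_charpoly M
  rwa [hp, map_pow, Polynomial.aeval_X] at this

end eigen

theorem coord_unique {K : Type*} [Field K] {n : Type*} {P : Matrix n (Fin 2) K}
    (hP : Function.Injective P.mulVec) {S T : Matrix (Fin 2) (Fin 2) K} (h : P * S = P * T) : S = T := by
  refine Matrix.ext fun i j => ?_
  have h2 : P.mulVec (fun k => S k j) = P.mulVec (fun k => T k j) := by
    funext r
    exact congrFun (congrFun h r) j
  exact congrFun (hP h2) i

/-- Two quadratic elements not generating a unipotent group involve `SL₂(p)`, and a natural module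
for it embeds. -/
theorem exists_natural {G : Type*} [Group G] [Finite G] {n : Type*} [Fintype n] [DecidableEq n]
    {p : ℕ} [Fact p.Prime] (hp : p ≠ 2) (ρ : G →* Matrix n n (ZMod p)) {x y : G}
    (hx : (ρ x - 1) * (ρ x - 1) = 0) (hy : (ρ y - 1) * (ρ y - 1) = 0)
    (hn : ¬ ∀ g ∈ Subgroup.closure ({x, y} : Set G), IsNilpotent (ρ g - 1)) :
    ∃ (H : Subgroup G) (ψ : H →* Matrix.SpecialLinearGroup (Fin 2) (ZMod p)),
      H ≤ Subgroup.closure ({x, y} : Set G) ∧ Function.Surjective ψ ∧
      ∃ Q : Matrix n (Fin 2) (ZMod p), Function.Injective Q.mulVec ∧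
        ∀ k : H, ρ (k : G) * Q = Q * (ψ k).1 := by
  classical
  set E := ρ x - 1 with hE
  set F := ρ y - 1 with hF
  have hEF : ¬ IsNilpotent (E * F) := fun h =>
    hn fun g hg => isNilpotent_sub_one_of_closure ρ hx hy h hg
  let K := AlgebraicClosure (ZMod p)
  haveI : CharP K p := charP_of_injective_algebraMap (algebraMap (ZMod p) K).injective p
  let ι := (algebraMap (ZMod p) K).mapMatrix (m := n)
  have hιinj : Function.Injective ι := fun A B h => Matrix.ext fun i j =>
    (algebraMap (ZMod p) K).injective (congrFun (congrFun h i) j)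
  obtain ⟨lam, v, hlam, hv, hev⟩ := exists_eigen_ne_zero (M := ι E * ι F) (by
    rintro ⟨m, hm⟩
    rw [← map_mul, ← map_pow] at hm
    exact hEF ⟨m, hιinj (hm.trans (map_zero ι).symm)⟩)
  set b := ι F *ᵥ v with hb
  have hEv : ι E *ᵥ v = 0 := by
    have h1 : ι E *ᵥ (lam • v) = 0 := by
      rw [← hev, Matrix.mulVec_mulVec, ← mul_assoc, ← map_mul, hx, map_zero, zero_mul, Matrix.zero_mulVec]
    rw [Matrix.mulVec_smul] at h1
    exact (smul_eq_zero.1 h1).resolve_left hlam
  have hFb : ι F *ᵥ b = 0 := by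
    rw [hb, Matrix.mulVec_mulVec, ← map_mul, hy, map_zero, Matrix.zero_mulVec]
  have hEb : ι E *ᵥ b = lam • v := by rw [hb, Matrix.mulVec_mulVec]; exact hev
  let P : Matrix n (Fin 2) K := Matrix.of fun i j => ![v i, b i] j
  have hP : Function.Injective P.mulVec := by
    suffices ∀ c : Fin 2 → K, P *ᵥ c = 0 → c = 0 by
      intro c d h
      exact sub_eq_zero.1 (this _ (by rw [Matrix.mulVec_sub, h, sub_self]))
    intro c hc
    have hc' : c 0 • v + c 1 • b = 0 := by
      rw [← hc]; funext i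
      simp [P, Matrix.mulVec, dotProduct, Fin.sum_univ_two, mul_comm]
    have h1 : c 1 • lam • v = 0 := by
      have := congrArg (fun w => ι E *ᵥ w) hc'
      simp only [Matrix.mulVec_add, Matrix.mulVec_smul, hEv, hEb, smul_zero, zero_add, Matrix.mulVec_zero] at this
      exact this
    have hc1 : c 1 = 0 := by
      rw [smul_smul, smul_eq_zero] at h1
      exact (mul_eq_zero.1 (h1.resolve_right hv)).resolve_right hlam
    rw [hc1, zero_smul, add_zero, smul_eq_zero] at hc'
    funext j
    fin_cases j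
    · exact hc'.resolve_right hv
    · exact hc1
  set S₀ : Set G := {g | ∃ T : Matrix.SpecialLinearGroup (Fin 2) K, ι (ρ g) * P = P * T.1} with hS₀
  let H₀ : Subgroup G :=
    { carrier := S₀
      one_mem' := ⟨1, by simp⟩
      mul_mem' := by
        rintro g h ⟨T, hT⟩ ⟨U, hU⟩
        exact ⟨T * U, by rw [map_mul, map_mul, Matrix.mul_assoc, hU, ← Matrix.mul_assoc, hT,
          Matrix.mul_assoc, Matrix.SpecialLinearGroup.coe_mul]⟩
      inv_mem' := by
        rintro g ⟨T, hT⟩
        refine ⟨T⁻¹, ?_⟩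
        have h1 : ι (ρ g⁻¹) * ι (ρ g) = 1 := by rw [← map_mul, ← map_mul, inv_mul_cancel, map_one, map_one]
        calc ι (ρ g⁻¹) * P = ι (ρ g⁻¹) * (P * (T.1 * (T⁻¹).1)) := by
              rw [← Matrix.SpecialLinearGroup.coe_mul, mul_inv_cancel, Matrix.SpecialLinearGroup.coe_one, Matrix.mul_one]
          _ = P * (T⁻¹).1 := by
              rw [← Matrix.mul_assoc P, ← hT, ← Matrix.mul_assoc, ← Matrix.mul_assoc, h1, Matrix.one_mul] }
  have hentry : ∀ (M : Matrix n n K) (w0 w1 : n → K) (T : Matrix (Fin 2) (Fin 2) K),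
      M *ᵥ v = T 0 0 • v + T 1 0 • b → M *ᵥ b = T 0 1 • v + T 1 1 • b → M * P = P * T := by
    intro M _ _ T h0 h1
    refine Matrix.ext fun i j => ?_
    fin_cases j
    · have := congrFun h0 i
      simp [Matrix.mulVec, dotProduct, P, Matrix.mul_apply, Fin.sum_univ_two] at this ⊢
      linear_combination this
    · have := congrFun h1 i
      simp [Matrix.mulVec, dotProduct, P, Matrix.mul_apply, Fin.sum_univ_two] at this ⊢
      linear_combination this
  have hxe : ι (ρ x) = 1 + ι E := by rw [hE, map_sub, map_one, add_sub_cancel]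
  have hye : ι (ρ y) = 1 + ι F := by rw [hF, map_sub, map_one, add_sub_cancel]
  have hxT : ι (ρ x) * P = P * (up lam).1 := by
    refine hentry _ v b _ ?_ ?_
    · simp [hxe, Matrix.add_mulVec, hEv]
    · simp [hxe, Matrix.add_mulVec, hEb, add_comm]
  have hyT : ι (ρ y) * P = P * (lo (1 : K)).1 := by
    refine hentry _ v b _ ?_ ?_
    · simp [hye, Matrix.add_mulVec, hb]
    · simp [hye, Matrix.add_mulVec, hFb]
  have hle : Subgroup.closure ({x, y} : Set G) ≤ H₀ := by
    rw [Subgroup.closure_le]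
    rintro z (rfl | rfl)
    · exact ⟨up lam, hxT⟩
    · exact ⟨lo 1, hyT⟩
  set C := Subgroup.closure ({x, y} : Set G) with hC
  choose φ hφ using fun g : C => hle g.2
  let Φ : C →* Matrix.SpecialLinearGroup (Fin 2) K := MonoidHom.mk' φ fun g h => Subtype.ext (coord_unique hP (by
    rw [← hφ, Subgroup.coe_mul, map_mul, map_mul, Matrix.mul_assoc, hφ, ← Matrix.mul_assoc, hφ,
      Matrix.mul_assoc, Matrix.SpecialLinearGroup.coe_mul]))
  have hΦ : ∀ (g : C) (T : Matrix.SpecialLinearGroup (Fin 2) K), ι (ρ (g : G)) * P = P * T.1 → Φ g = T :=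
    fun g T h => Subtype.ext (coord_unique hP ((hφ g).symm.trans h))
  have hxC : x ∈ C := Subgroup.subset_closure (by simp)
  have hyC : y ∈ C := Subgroup.subset_closure (by simp)
  have : Finite Φ.range := Finite.of_surjective _ Φ.rangeRestrict_surjective
  obtain ⟨W, hW, ⟨e⟩⟩ := dickson p hp Φ.range
    ⟨_, ⟨⟨x, hxC⟩, rfl⟩, _, ⟨⟨y, hyC⟩, rfl⟩, by rw [hΦ ⟨x, hxC⟩ _ hxT, trace_up],
      by rw [hΦ ⟨y, hyC⟩ _ hyT]; simp [Matrix.trace_fin_two, one_add_one_eq_two], by
      rw [hΦ ⟨x, hxC⟩ _ hxT, hΦ ⟨y, hyC⟩ _ hyT]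
      intro h
      have := congrArg (fun z : Matrix.SpecialLinearGroup (Fin 2) K => z.1 0 0) h
      simp [mul_entry, hlam] at this⟩
  -- bring the copy of `SL₂(p)` to standard form
  let emb : Matrix.SpecialLinearGroup (Fin 2) (ZMod p) →* Matrix.SpecialLinearGroup (Fin 2) K :=
    W.subtype.comp e.symm.toMonoidHom
  have hemb : Function.Injective emb := W.subtype_injective.comp e.symm.injective
  have htr : ∀ z, z ^ p = 1 → (emb z).1.trace = 2 := fun z hz =>
    trace_of_pow p (k := 1) (by rw [pow_one, ← map_pow, hz, map_one])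
  have hup : (up (1 : ZMod p)) ^ p = 1 := by rw [up_pow]; simp [up_zero]
  have hlo : (lo (1 : ZMod p)) ^ p = 1 := by
    rw [lo_pow]; apply ext_entries <;> simp
  obtain ⟨M, β, γ, hβ, hγ, hMu, hMl⟩ := exists_conj_up_lo (htr _ hup) (htr _ hlo) (fun h => by
    rw [← map_mul, ← map_mul] at h
    have := congrArg (fun z : Matrix.SpecialLinearGroup (Fin 2) (ZMod p) => z.1 0 0) (hemb h)
    simp [mul_entry] at this)
  let f := algebraMap (ZMod p) K
  -- the embedding is conjugate to the field map followed by a diagonal matrix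
  have hsq : (up (1 : ZMod p)) * (lo (-1)) * up 1 * ((up 1) * (lo (-1)) * up 1) = -1 := by
    apply ext_entries <;> simp [mul_entry]
  have hγβ : γ = β⁻¹ := by
    have hneg : emb (-1) = -1 := by
      have h1 : ((emb (-1)) * (emb (-1))) = 1 := by rw [← map_mul]; simp
      have hne : emb (-1) ≠ 1 := by
        rw [← map_one emb]
        intro h
        have := congrArg (fun z : Matrix.SpecialLinearGroup (Fin 2) (ZMod p) => z.1 0 0) (hemb h)
        simp at this
        have h2 : (2 : ZMod p) = 0 := by linear_combination -this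
        exact two_ne (K := ZMod p) p hp h2
      set w := emb (-1) with hw
      have hinv : w⁻¹ = w := inv_eq_of_mul_eq_one_left h1
      obtain ⟨i00, i01, i10, -⟩ := inv_entries w
      rw [hinv] at i00 i01 i10
      have h2K := two_ne (K := K) p hp
      have h01 : w.1 0 1 = 0 := mul_left_cancel₀ h2K (by linear_combination i01)
      have h10 : w.1 1 0 = 0 := mul_left_cancel₀ h2K (by linear_combination i10)
      have hd := det_eq w
      rw [h01, zero_mul, sub_zero, ← i00] at hd
      rcases mul_self_eq_one_iff.1 hd with h | h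
      · exact absurd (ext_entries (by simp [h]) (by simp [h01]) (by simp [h10]) (by simp [← i00, h])) hne
      · exact ext_entries (by simp [h]) (by simp [h01]) (by simp [h10]) (by simp [← i00, h])
    have h := congrArg (fun z => conjBy M (emb z)) hsq
    simp only [map_mul, hneg, conjBy_neg_one, hMu] at h
    have hl : conjBy M (emb (lo (-1))) = lo (-γ) := by
      rw [show lo (-1 : ZMod p) = (lo 1)⁻¹ from eq_inv_of_mul_eq_one_left (by
        rw [lo_mul]; apply ext_entries <;> simp), map_inv, map_inv, hMl]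
      refine inv_eq_of_mul_eq_one_right ?_
      rw [lo_mul]; apply ext_entries <;> simp
    rw [hl] at h
    have e01 := congrArg (fun z : Matrix.SpecialLinearGroup (Fin 2) K => z.1 0 1) h
    simp [mul_entry] at e01
    have h3 : (1 - β * γ) * (β * (2 - β * γ)) = 0 :=
      mul_left_cancel₀ (two_ne (K := K) p hp) (by linear_combination e01)
    have e00 := congrArg (fun z : Matrix.SpecialLinearGroup (Fin 2) K => z.1 0 0) h
    simp [mul_entry] at e00
    rcases mul_eq_zero.1 h3 with h4 | h4
    · exact (eq_inv_of_mul_eq_one_right (by linear_combination -h4))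
    · exfalso
      have h5 : β * γ = 2 := by linear_combination -((mul_eq_zero.1 h4).resolve_left hβ)
      apply two_ne (K := K) p hp
      linear_combination e00 - 2 * (β * γ) * h5
  subst hγβ
  let P' : Matrix n (Fin 2) K := P * (((M⁻¹ : (Matrix (Fin 2) (Fin 2) K)ˣ) : Matrix (Fin 2) (Fin 2) K) *
    !![β, 0; 0, 1])
  let H₁ : Subgroup G := ((W.comap Φ)).map C.subtype
  have hH₁ : H₁ ≤ C := Subgroup.map_subtype_le _
  let ψ : H₁ →* Matrix.SpecialLinearGroup (Fin 2) (ZMod p) :=
    MonoidHom.mk' (fun k => e ⟨Φ ⟨k, hH₁ k.2⟩, by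
      obtain ⟨c, hc, hck⟩ := k.2
      rw [show (⟨(k : G), hH₁ k.2⟩ : C) = c from Subtype.ext hck.symm]; exact hc⟩) fun k l => by
      rw [← map_mul]; congr 1; exact Subtype.ext (map_mul Φ ⟨k, hH₁ k.2⟩ ⟨l, hH₁ l.2⟩)
  have hψ : Function.Surjective ψ := by
    intro z
    obtain ⟨c, hc⟩ := hW (e.symm z).2
    refine ⟨⟨c, c, by rw [SetLike.mem_coe, Subgroup.mem_comap, hc]; exact (e.symm z).2, rfl⟩, ?_⟩
    show e _ = z
    rw [show (⟨Φ ⟨(c : G), _⟩, _⟩ : W) = e.symm z from Subtype.ext hc, MulEquiv.apply_symm_apply]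
  refine ⟨H₁, ψ, hH₁, hψ, ?_⟩
  have hscale : ∀ z, conjBy M (emb z) = scaleSL f β hβ z := by
    intro z
    let φ₁ : Matrix.SpecialLinearGroup (Fin 2) (ZMod p) →* Matrix.SpecialLinearGroup (Fin 2) K :=
      { toFun := scaleSL f β hβ
        map_one' := by apply ext_entries <;> simp [coe_scaleSL]
        map_mul' := fun g h => by
          apply ext_entries <;> simp [coe_scaleSL, mul_entry] <;> first | ring1 | (simp [mul_comm, mul_left_comm, hβ]) | (field_simp; ring1) | field_simp }
    have : (conjBy M).toMonoidHom.comp emb = φ₁ := by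
      refine MonoidHom.eq_of_eqOn_dense (closure_pair p) ?_
      rintro w (rfl | rfl)
      · show conjBy M (emb (up 1)) = scaleSL f β hβ (up 1)
        rw [hMu]; apply ext_entries <;> simp [coe_scaleSL]
      · show conjBy M (emb (lo 1)) = scaleSL f β hβ (lo 1)
        rw [hMl]; apply ext_entries <;> simp [coe_scaleSL]
    exact DFunLike.congr_fun this z
  have hint : ∀ k : H₁, ι (ρ (k : G)) * P' = P' * (f.mapMatrix (ψ k).1) := by
    intro k
    have h1 : ι (ρ (k : G)) * P = P * (emb (ψ k)).1 := by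
      have h2 := hφ ⟨k, hH₁ k.2⟩
      rw [show emb (ψ k) = φ ⟨k, hH₁ k.2⟩ from ?_]
      · exact h2
      · show ((e.symm (e _) : W) : Matrix.SpecialLinearGroup (Fin 2) K) = _
        rw [MulEquiv.symm_apply_apply]; rfl
    have h3 := congrArg Subtype.val (hscale (ψ k))
    rw [coe_conjBy] at h3
    have h4 : (scaleSL f β hβ (ψ k)).1 * !![β, 0; 0, 1] = !![β, 0; 0, 1] * f.mapMatrix (ψ k).1 := by
      refine Matrix.ext fun i j => ?_
      fin_cases i <;> fin_cases j <;>
        simp [coe_scaleSL, Matrix.mul_apply, Fin.sum_univ_two] <;> first | ring1 | (simp [mul_comm, mul_left_comm, hβ]) | (field_simp; ring1) | field_simp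
    have h5 : (emb (ψ k)).1 * ((M⁻¹ : (Matrix (Fin 2) (Fin 2) K)ˣ) : Matrix (Fin 2) (Fin 2) K) =
        ((M⁻¹ : (Matrix (Fin 2) (Fin 2) K)ˣ) : Matrix (Fin 2) (Fin 2) K) * (scaleSL f β hβ (ψ k)).1 := by
      rw [← h3, ← mul_assoc, ← mul_assoc, Units.inv_mul, one_mul]
    calc ι (ρ (k : G)) * P' = P * ((emb (ψ k)).1 * (((M⁻¹ : (Matrix (Fin 2) (Fin 2) K)ˣ) :
          Matrix (Fin 2) (Fin 2) K) * !![β, 0; 0, 1])) := by
            simp only [P', ← Matrix.mul_assoc, h1]
      _ = _ := by
            rw [← Matrix.mul_assoc (emb (ψ k)).1, h5, Matrix.mul_assoc _ _ !![β, 0; 0, 1], h4]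
            simp only [P', Matrix.mul_assoc]
  have hP' : P' ≠ 0 := by
    intro h
    have h2 : ((M⁻¹ : (Matrix (Fin 2) (Fin 2) K)ˣ) : Matrix (Fin 2) (Fin 2) K) * !![β, 0; 0, 1] = 0 :=
      coord_unique hP (h.trans (Matrix.mul_zero P).symm)
    have h3 := congrArg (fun z => (M : Matrix (Fin 2) (Fin 2) K) * z) h2
    simp only [← mul_assoc, Units.mul_inv, one_mul, mul_zero] at h3
    exact one_ne_zero (congrFun (congrFun h3 1) 1 : (1 : K) = 0)
  -- descend to the prime field
  obtain ⟨i, j, hij⟩ : ∃ i j, P' i j ≠ 0 := by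
    by_contra! h
    exact hP' (Matrix.ext h)
  obtain ⟨d, hd⟩ : ∃ d : Module.Dual (ZMod p) K, d (P' i j) ≠ 0 := by
    by_contra! h
    exact hij ((Module.forall_dual_apply_eq_zero_iff (ZMod p) _).1 h)
  let Q : Matrix n (Fin 2) (ZMod p) := P'.map d
  have hQ : ∀ k : H₁, ρ (k : G) * Q = Q * (ψ k).1 := by
    intro k
    refine Matrix.ext fun a c => ?_
    have h := congrArg d (congrFun (congrFun (hint k) a) c)
    simp only [Matrix.mul_apply, map_sum, ι, RingHom.mapMatrix_apply, Matrix.map_apply, Q] at h ⊢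
    refine Eq.trans (Eq.trans (Finset.sum_congr rfl fun l _ => ?_) h) (Finset.sum_congr rfl fun l _ => ?_)
    · rw [← smul_eq_mul, ← map_smul, Algebra.smul_def]
    · rw [mul_comm (P' a l), ← Algebra.smul_def, map_smul, smul_eq_mul, mul_comm]
  refine ⟨Q, ?_, hQ⟩
  suffices h : ∀ c : Fin 2 → ZMod p, Q *ᵥ c = 0 → c = 0 by
    intro c c' hcc
    exact sub_eq_zero.1 (h _ (by rw [Matrix.mulVec_sub, hcc, sub_self]))
  intro c hc
  by_contra hne
  have hstep : ∀ (z : Matrix.SpecialLinearGroup (Fin 2) (ZMod p)) (c : Fin 2 → ZMod p),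
      Q *ᵥ c = 0 → Q *ᵥ (z.1 *ᵥ c) = 0 := by
    intro z c hc
    obtain ⟨k, rfl⟩ := hψ z
    rw [Matrix.mulVec_mulVec, ← hQ, ← Matrix.mulVec_mulVec, hc, Matrix.mulVec_zero]
  have hu : Q *ᵥ ![c 1, 0] = 0 := by
    rw [show ![c 1, 0] = (up (1 : ZMod p)).1 *ᵥ c - c by
      funext l; fin_cases l <;> simp [Matrix.mulVec, dotProduct, Fin.sum_univ_two],
      Matrix.mulVec_sub, hstep _ _ hc, hc, sub_zero]
  have hl : Q *ᵥ ![0, c 0] = 0 := by
    rw [show ![0, c 0] = (lo (1 : ZMod p)).1 *ᵥ c - c by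
      funext l; fin_cases l <;> simp [Matrix.mulVec, dotProduct, Fin.sum_univ_two],
      Matrix.mulVec_sub, hstep _ _ hc, hc, sub_zero]
  obtain ⟨s, hs, hs0⟩ : ∃ s : ZMod p, s ≠ 0 ∧ (Q *ᵥ ![s, 0] = 0 ∧ Q *ᵥ ![0, s] = 0) := by
    rcases ne_or_eq (c 1) 0 with h | h
    · refine ⟨c 1, h, hu, ?_⟩
      rw [show ![0, c 1] = (lo (1 : ZMod p)).1 *ᵥ ![c 1, 0] - ![c 1, 0] by
        funext l; fin_cases l <;> simp [Matrix.mulVec, dotProduct, Fin.sum_univ_two],
        Matrix.mulVec_sub, hstep _ _ hu, hu, sub_zero]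
    · have h0 : c 0 ≠ 0 := fun h0 => hne (funext fun l => by fin_cases l <;> assumption)
      refine ⟨c 0, h0, ?_, hl⟩
      rw [show ![c 0, 0] = c by funext l; fin_cases l <;> simp [h]]
      exact hc
  apply hd
  have e1 := congrFun hs0.1 i
  have e2 := congrFun hs0.2 i
  simp [Matrix.mulVec, dotProduct, Fin.sum_univ_two, hs] at e1 e2
  fin_cases j
  · exact e1
  · exact e2

end CfsgLib.Dickson
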